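import Mathlib

/-!
Vectors of `GF(4)^6` as numbers below 4096 (two bits per coordinate, addition = xor), semilinear
maps as the twelve images of the basis bits packed into one number.
-/

set_option autoImplicit false

namespace Cfsg.Agent.Lib.FischerLarge45.Model

/-- xor of the `f j` over the set bits `j ∈ l` of `k` -/
def sumBits (f : Nat → Nat) (k : Nat) : List Nat → Nat
  | [] => 0
  | j :: l => (if k.testBit j then f j else 0) ^^^ sumBits f k l

theorem sumBits_xor (f : Nat → Nat) (a b : Nat) (l : List Nat) :
    sumBits f (a ^^^ b) l = sumBits f a l ^^^ sumBits f b l := by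
  induction l with
  | nil => simp [sumBits]
  | cons j l ih =>
    simp only [sumBits, ih, Nat.testBit_xor]
    apply Nat.eq_of_testBit_eq
    intro i
    cases a.testBit j <;> cases b.testBit j <;> simp [Nat.testBit_xor] <;>
      cases (f j).testBit i <;> cases (sumBits f a l).testBit i <;> cases (sumBits f b l).testBit i <;> rfl

theorem sumBits_congr (f g : Nat → Nat) (k : Nat) (l : List Nat) (h : ∀ j ∈ l, f j = g j) :
    sumBits f k l = sumBits g k l := by
  induction l with
  | nil => rfl
  | cons j l ih =>
    simp only [sumBits, h j (List.mem_cons_self ..), ih fun i hi => h i (List.mem_cons_of_mem _ hi)]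

/-- the `j`-th packed image -/
def img (key j : Nat) : Nat := (key >>> (12 * j)) &&& 4095

/-- the map with packed images `key` -/
def ap (key k : Nat) : Nat := sumBits (img key) k (List.range 12)

theorem ap_xor (key a b : Nat) : ap key (a ^^^ b) = ap key a ^^^ ap key b := sumBits_xor _ _ _ _

theorem sumBits_id_aux : (List.range 4096).all (fun k => sumBits (fun j => 2 ^ j) k (List.range 12) == k) = true := by
  decide +kernel

theorem sumBits_id {k : Nat} (hk : k < 4096) : sumBits (fun j => 2 ^ j) k (List.range 12) = k := by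
  simpa using List.all_eq_true.1 sumBits_id_aux k (List.mem_range.2 hk)

theorem map_sumBits (φ : Nat → Nat) (hx : ∀ a < 4096, ∀ b < 4096, φ (a ^^^ b) = φ a ^^^ φ b) (k : Nat)
    (l : List Nat) (hl : ∀ j ∈ l, j < 12) :
    φ (sumBits (fun j => 2 ^ j) k l) = sumBits (fun j => φ (2 ^ j)) k l ∧
      sumBits (fun j => 2 ^ j) k l < 4096 := by
  have h0 : φ 0 = 0 := by simpa using hx 0 (by norm_num) 0 (by norm_num)
  induction l with
  | nil => exact ⟨h0, by norm_num [sumBits]⟩
  | cons j l ih =>
    obtain ⟨e, hlt⟩ := ih fun i hi => hl i (List.mem_cons_of_mem _ hi)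
    have hj : 2 ^ j < 4096 := lt_of_lt_of_le (Nat.pow_lt_pow_right (by norm_num) (hl j (List.mem_cons_self ..)))
      (by norm_num)
    have hb : (if k.testBit j then 2 ^ j else 0) < 4096 := by split <;> [exact hj; norm_num]
    refine ⟨?_, Nat.xor_lt_two_pow (n := 12) hb hlt⟩
    simp only [sumBits]
    rw [hx _ hb _ hlt, e]
    split <;> simp [h0]

/-- two additive maps agreeing on the basis agree -/
theorem eq_of_basis (φ ψ : Nat → Nat) (hφ : ∀ a < 4096, ∀ b < 4096, φ (a ^^^ b) = φ a ^^^ φ b)
    (hψ : ∀ a < 4096, ∀ b < 4096, ψ (a ^^^ b) = ψ a ^^^ ψ b)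
    (h : ∀ j < 12, φ (2 ^ j) = ψ (2 ^ j)) {k : Nat} (hk : k < 4096) : φ k = ψ k := by
  have hl : ∀ j ∈ List.range 12, j < 12 := fun j hj => List.mem_range.1 hj
  rw [← sumBits_id hk, (map_sumBits φ hφ k _ hl).1, (map_sumBits ψ hψ k _ hl).1]
  exact sumBits_congr _ _ _ _ fun j hj => h j (hl j hj)

theorem ap_lt (key k : Nat) : ap key k < 4096 := by
  have : ∀ l : List Nat, sumBits (img key) k l < 4096 := by
    intro l
    induction l with
    | nil => norm_num [sumBits]
    | cons j l ih =>
      refine Nat.xor_lt_two_pow (n := 12) ?_ ih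
      split
      · exact lt_of_le_of_lt Nat.and_le_right (by norm_num)
      · norm_num
  exact this _

/-- multiplication by `ω` in every coordinate -/
def omega (k : Nat) : Nat := ((k &&& 2730) >>> 1) ^^^ ((k &&& 1365) <<< 1) ^^^ (k &&& 2730)

end Cfsg.Agent.Lib.FischerLarge45.Model
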