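import Cfsg.Agent.Lib.LargeFischer13.Monomial
import Cfsg.Agent.Lib.FischerLarge45.Model

/-!
Vectors of `GF(4)^6` as phase coordinates and as numbers below 4096.
-/

set_option autoImplicit false

namespace Cfsg.Agent.Lib.FischerLarge45.Codes

open Cfsg.Agent.Lib.LargeFischer13
open Cfsg.Agent.Lib.LargeFischer13.Model (Coord Ph wt phase shift move moveC oadd)
open Cfsg.Agent.Lib.FischerLarge45.Model (omega)

/-- two bits to a coordinate -/
def dig : Nat → Option (ZMod 3)
  | 1 => some 0
  | 2 => some 1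
  | 3 => some 2
  | _ => none

/-- a coordinate to two bits -/
def num : Option (ZMod 3) → Nat
  | none => 0
  | some k => k.val + 1

/-- the coordinates of a code -/
def dec (k : Nat) : Coord := fun i => dig ((k >>> (2 * i.val)) &&& 3)

/-- the code of coordinates -/
def enc (c : Coord) : Nat :=
  num (c 0) + 4 * num (c 1) + 16 * num (c 2) + 64 * num (c 3) + 256 * num (c 4) + 1024 * num (c 5)

theorem num_lt : ∀ o : Option (ZMod 3), num o < 4 := by decide

theorem dig_num : ∀ o : Option (ZMod 3), dig (num o) = o := by decide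

theorem num_dig : ∀ a < 4, num (dig a) = a := by decide

theorem dig_xor : ∀ a < 4, ∀ b < 4, dig (a ^^^ b) = oadd (dig a) (dig b) := by decide

theorem enc_lt (c : Coord) : enc c < 4096 := by
  have := num_lt (c 0); have := num_lt (c 1); have := num_lt (c 2)
  have := num_lt (c 3); have := num_lt (c 4); have := num_lt (c 5)
  unfold enc; omega

theorem dec_enc (c : Coord) : dec (enc c) = c := by
  have := num_lt (c 0); have := num_lt (c 1); have := num_lt (c 2)
  have := num_lt (c 3); have := num_lt (c 4); have := num_lt (c 5)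
  funext i
  have key : (enc c >>> (2 * i.val)) &&& 3 = num (c i) := by
    rw [Nat.shiftRight_eq_div_pow, show (3 : ℕ) = 2 ^ 2 - 1 from rfl, Nat.and_two_pow_sub_one_eq_mod]
    unfold enc
    have hc : ∀ j : Fin 6, j = 0 ∨ j = 1 ∨ j = 2 ∨ j = 3 ∨ j = 4 ∨ j = 5 := by decide
    rcases hc i with rfl | rfl | rfl | rfl | rfl | rfl <;>
      simp only [Fin.val_zero, Fin.val_one, Fin.val_two, show ((3 : Fin 6) : ℕ) = 3 from rfl,
        show ((4 : Fin 6) : ℕ) = 4 from rfl, show ((5 : Fin 6) : ℕ) = 5 from rfl] <;> norm_num <;> omega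
  show dig ((enc c >>> (2 * i.val)) &&& 3) = c i
  rw [key, dig_num]

theorem enc_dec {k : Nat} (hk : k < 4096) : enc (dec k) = k := by
  have key : ∀ j : ℕ, num (dig ((k >>> j) &&& 3)) = k / 2 ^ j % 4 := fun j => by
    rw [Nat.shiftRight_eq_div_pow, show (3 : ℕ) = 2 ^ 2 - 1 from rfl, Nat.and_two_pow_sub_one_eq_mod]
    exact num_dig _ (Nat.mod_lt _ (by norm_num))
  simp only [enc, dec, key]
  norm_num
  omega

theorem dec_xor (a b : Nat) : dec (a ^^^ b) = fun i => oadd (dec a i) (dec b i) := by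
  funext i
  simp only [dec, Nat.shiftRight_xor_distrib, Nat.and_xor_distrib_right]
  exact dig_xor _ (lt_of_le_of_lt Nat.and_le_right (by norm_num)) _
    (lt_of_le_of_lt Nat.and_le_right (by norm_num))

theorem dec_inj {a b : Nat} (ha : a < 4096) (hb : b < 4096) (h : dec a = dec b) : a = b := by
  rw [← enc_dec ha, ← enc_dec hb, h]

theorem enc_oadd (c d : Coord) : enc (fun i => oadd (c i) (d i)) = enc c ^^^ enc d := by
  refine dec_inj (enc_lt _) (Nat.xor_lt_two_pow (n := 12) (enc_lt c) (enc_lt d)) ?_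
  rw [dec_xor, dec_enc, dec_enc, dec_enc]

/-- number of non-zero coordinates -/
def wtN (k : Nat) : Nat :=
  ((List.range 6).filter fun i => (k >>> (2 * i)) &&& 3 != 0).length

/-- sum of the phases -/
def phN (k : Nat) : Nat := ((List.range 6).map fun i => ((k >>> (2 * i)) &&& 3) - 1).sum % 3

/-- the quadratic form -/
def qn (k : Nat) : Bool := wtN k % 2 == 1

/-- the orbit of 378 -/
def inU (k : Nat) : Bool := wtN k == 2 || (wtN k == 6 && phN k == 0)

theorem code_aux : ∀ a < 64, ∀ b < 64, wt (dec (64 * a + b)) = wtN (64 * a + b) ∧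
    (wtN (64 * a + b) = 6 → (phase (dec (64 * a + b))).val = phN (64 * a + b)) ∧
    dec (omega (64 * a + b)) = shift (fun _ => 1) (dec (64 * a + b)) := by decide +kernel

theorem code_facts : ∀ k < 4096, wt (dec k) = wtN k ∧ (wtN k = 6 → (phase (dec k)).val = phN k) ∧
    dec (omega k) = shift (fun _ => 1) (dec k) := fun k hk => by
  have := code_aux (k / 64) (Nat.div_lt_of_lt_mul hk) (k % 64) (Nat.mod_lt _ (by norm_num))
  rwa [Nat.div_add_mod] at this

theorem wt_dec {k : Nat} (hk : k < 4096) : wt (dec k) = wtN k := (code_facts k hk).1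

theorem inU_iff {k : Nat} (hk : k < 4096) :
    inU k = true ↔ (wt (dec k) = 2 ∨ (wt (dec k) = 6 ∧ phase (dec k) = 0)) := by
  obtain ⟨h1, h2, -⟩ := code_facts k hk
  simp only [inU, Bool.or_eq_true, Bool.and_eq_true, beq_iff_eq, h1]
  refine or_congr Iff.rfl (and_congr_right fun h6 => ?_)
  rw [← h2 h6]
  exact ZMod.val_eq_zero _

theorem omega_lt {k : Nat} (hk : k < 4096) : omega k < 4096 := by
  unfold omega
  refine Nat.xor_lt_two_pow (n := 12) (Nat.xor_lt_two_pow (n := 12) ?_ ?_)
    (lt_of_le_of_lt Nat.and_le_left hk)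
  · exact lt_of_le_of_lt (Nat.shiftRight_le _ _) (lt_of_le_of_lt Nat.and_le_left hk)
  · rw [Nat.shiftLeft_eq]
    have : k &&& 1365 ≤ 1365 := Nat.and_le_right
    omega

theorem omega_xor (a b : Nat) : omega (a ^^^ b) = omega a ^^^ omega b := by
  apply Nat.eq_of_testBit_eq
  intro i
  simp only [omega, Nat.testBit_xor, Nat.testBit_shiftRight, Nat.testBit_shiftLeft, Nat.testBit_and]
  generalize a.testBit (1 + i) = p1
  generalize b.testBit (1 + i) = p2
  generalize a.testBit (i - 1) = p3
  generalize b.testBit (i - 1) = p4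
  generalize a.testBit i = p5
  generalize b.testBit i = p6
  generalize Nat.testBit 2730 (1 + i) = p7
  generalize Nat.testBit 1365 (i - 1) = p8
  generalize Nat.testBit 2730 i = p9
  generalize decide (i ≥ 1) = p10
  revert p1 p2 p3 p4 p5 p6 p7 p8 p9 p10
  decide

/-- a monomial map on codes -/
def mv (π : Equiv.Perm (Fin 6)) (σ : Ph) (k : Nat) : Nat := enc (move π σ (dec k))

/-- a semilinear monomial map on codes -/
def mvC (π : Equiv.Perm (Fin 6)) (σ : Ph) (k : Nat) : Nat := enc (moveC π σ (dec k))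

theorem oadd_shift : ∀ (o o' : Option (ZMod 3)) (a : ZMod 3),
    (oadd o o').map (· + a) = oadd (o.map (· + a)) (o'.map (· + a)) := by decide

theorem oadd_neg : ∀ (o o' : Option (ZMod 3)) (a : ZMod 3),
    (oadd o o').map (fun x => a - x) = oadd (o.map (fun x => a - x)) (o'.map (fun x => a - x)) := by decide

theorem mv_xor (π : Equiv.Perm (Fin 6)) (σ : Ph) (a b : Nat) : mv π σ (a ^^^ b) = mv π σ a ^^^ mv π σ b := by
  rw [mv, dec_xor, mv, mv, ← enc_oadd]
  congr 1
  funext i
  exact oadd_shift _ _ _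

theorem mvC_xor (π : Equiv.Perm (Fin 6)) (σ : Ph) (a b : Nat) :
    mvC π σ (a ^^^ b) = mvC π σ a ^^^ mvC π σ b := by
  rw [mvC, dec_xor, mvC, mvC, ← enc_oadd]
  congr 1
  funext i
  exact oadd_neg _ _ _

end Cfsg.Agent.Lib.FischerLarge45.Codes
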