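import Cfsg.Agent.Lib.LargeExtraspecial.Singular
import Cfsg.Prelude.Def_Transfer

/-!
An extraspecial normal subgroup `Q` of width 6 with central involution `z`, an elementary abelian
`U ≤ Q` of order `2^7`, and a 2-group `B ≥ Q` stabilising `U` modulo `⟨z⟩` with `B / Q` of order 16:
if an element of order three acts fixed point freely on `U / ⟨z⟩` and trivially on `B / Q`, and a
normaliser permutes `B / Q` transitively, then `C_B(U)` is elementary abelian of order `2^11`.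
-/

set_option autoImplicit false

namespace Cfsg.Agent.Lib.FischerLarge45

open Cfsg.Agent.Lib.LargeExtraspecial.Basic Cfsg.Agent.Lib.LargeExtraspecial.Singular

variable {H : Type*} [Group H] [Finite H] {Q : Subgroup H} {z : H}

/-- `(-1) ^ a` -/
def sgn (a : ZMod 2) : ℤ := if a = 0 then 1 else -1

theorem sgn_add : ∀ a b : ZMod 2, sgn (a + b) = sgn a * sgn b := by decide

open Classical in
theorem sum_sgn (U : Subgroup H) [Fintype ↥U] (f : H → ZMod 2)
    (hf : ∀ a ∈ U, ∀ b ∈ U, f (a * b) = f a + f b) :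
    ∑ u : ↥U, sgn (f u.1) = if (∀ u ∈ U, f u = 0) then (Nat.card U : ℤ) else 0 := by
  split_ifs with h
  · simp [sgn, fun u : ↥U => h u.1 u.2, Nat.card_eq_fintype_card]
  · push Not at h
    obtain ⟨a, ha, hfa⟩ := h
    have h1 : f a = 1 := (by decide : ∀ x : ZMod 2, x ≠ 0 → x = 1) _ hfa
    have h2 : ∑ u : ↥U, sgn (f u.1) = ∑ u : ↥U, -sgn (f u.1) :=
      Fintype.sum_equiv (Equiv.mulLeft (⟨a, ha⟩ : ↥U)) _ _ fun u => by
        show sgn (f u.1) = -sgn (f (a * u.1))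
        rw [hf a ha u.1 u.2, h1, sgn_add, show sgn 1 = -1 from rfl]
        simp
    rw [Finset.sum_neg_distrib] at h2
    omega

open Classical in
/-- `|C_Q(U)| |U| = 2 |Q|`. -/
theorem card_centralizer_mul (h : ES Q z) (U : Subgroup H) (hUQ : U ≤ Q) (hzU : z ∈ U) :
    Nat.card ↥(Q ⊓ Subgroup.centralizer (U : Set H) : Subgroup H) * Nat.card U = 2 * Nat.card Q := by
  have := Fintype.ofFinite H
  have e1 : ∀ q : ↥Q, ∑ u : ↥U, sgn (chi q.1 u.1) =
      if q.1 ∈ Subgroup.centralizer (U : Set H) then (Nat.card U : ℤ) else 0 := by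
    intro q
    refine (sum_sgn U (chi q.1) fun a ha b hb => h.chi_mul_right q.2 (hUQ ha) (hUQ hb)).trans ?_
    by_cases hh : q.1 ∈ Subgroup.centralizer (U : Set H)
    · have h' : ∀ u ∈ U, chi q.1 u = 0 := fun u hu =>
        chi_eq_zero.2 (Subgroup.mem_centralizer_iff.1 hh u hu).symm
      rw [if_pos hh, if_pos h']
    · have h' : ¬ ∀ u ∈ U, chi q.1 u = 0 := fun hn => hh (Subgroup.mem_centralizer_iff.2 fun u hu =>
        ((chi_eq_zero.1 (hn u hu)).eq).symm)
      rw [if_neg hh, if_neg h']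
  have e2 : ∀ u : ↥U, ∑ q : ↥Q, sgn (chi q.1 u.1) =
      if u.1 = 1 ∨ u.1 = z then (Nat.card Q : ℤ) else 0 := by
    intro u
    refine (sum_sgn Q (fun q => chi q u.1) fun a ha b hb => h.chi_mul_left ha hb (hUQ u.2)).trans ?_
    by_cases hh : u.1 = 1 ∨ u.1 = z
    · rw [if_pos hh, if_pos fun q hq => chi_eq_zero.2 ?_]
      rcases hh with e | e <;> rw [e]
      · exact Commute.one_right q
      · exact h.comm q hq
    · rw [if_neg hh, if_neg fun hn => hh (h.center _ (hUQ u.2) fun q hq => chi_eq_zero.1 (hn q hq))]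
  have e3 := Finset.sum_comm (s := (Finset.univ : Finset ↥Q)) (t := (Finset.univ : Finset ↥U))
    (f := fun q u => sgn (chi q.1 u.1))
  simp only [e1, e2, Finset.sum_ite, Finset.sum_const_zero, add_zero, Finset.sum_const, nsmul_eq_mul] at e3
  have c1 : (Finset.univ.filter fun q : ↥Q => q.1 ∈ Subgroup.centralizer (U : Set H)).card =
      Nat.card ↥(Q ⊓ Subgroup.centralizer (U : Set H) : Subgroup H) := by
    rw [← Fintype.card_subtype, ← Nat.card_eq_fintype_card]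
    exact Nat.card_congr ((Equiv.subtypeSubtypeEquivSubtypeInter (fun x => x ∈ Q)
      (fun x => x ∈ Subgroup.centralizer (U : Set H))).trans (Equiv.subtypeEquivRight fun x => Iff.rfl))
  have c2 : (Finset.univ.filter fun u : ↥U => u.1 = 1 ∨ u.1 = z).card = 2 := by
    rw [show (Finset.univ.filter fun u : ↥U => u.1 = 1 ∨ u.1 = z) = {1, ⟨z, hzU⟩} by
      ext u
      simp only [Finset.mem_filter, Finset.mem_univ, true_and, Finset.mem_insert, Finset.mem_singleton]
      exact or_congr ⟨fun h => Subtype.ext h, fun h => congrArg Subtype.val h⟩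
        ⟨fun h => Subtype.ext h, fun h => congrArg Subtype.val h⟩]
    exact Finset.card_pair fun e => h.ne (congrArg Subtype.val e).symm
  rw [c1, c2] at e3
  exact_mod_cast e3

/-- An elementary abelian subgroup of an extraspecial group of order `2^13` has order at most `2^7`. -/
theorem card_le_of_abelian (h : ES Q z) (hQc : Nat.card Q = 2 ^ 13) (U : Subgroup H) (hUQ : U ≤ Q)
    (hzU : z ∈ U) (hU2 : ∀ u ∈ U, u * u = 1) : Nat.card U ≤ 2 ^ 7 := by
  have e := card_centralizer_mul h U hUQ hzU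
  have hle : Nat.card U ≤ Nat.card ↥(Q ⊓ Subgroup.centralizer (U : Set H) : Subgroup H) :=
    Subgroup.card_le_of_le
      (show U ≤ Q ⊓ Subgroup.centralizer (U : Set H) from
        fun u hu => ⟨hUQ hu, fun v hv => (commute_of_sq hU2 hv hu).eq⟩)
  have := Nat.mul_le_mul_right (Nat.card U) hle
  rw [e, hQc] at this
  by_contra hh
  push Not at hh
  have := Nat.mul_le_mul hh.le hh
  omega

theorem centralizer_eq (h : ES Q z) (hQc : Nat.card Q = 2 ^ 13) (U : Subgroup H) (hUQ : U ≤ Q)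
    (hzU : z ∈ U) (hU2 : ∀ u ∈ U, u * u = 1) (hUc : Nat.card U = 2 ^ 7) :
    Q ⊓ Subgroup.centralizer (U : Set H) = U := by
  refine (Subgroup.eq_of_le_of_card_ge
    (show U ≤ Q ⊓ Subgroup.centralizer (U : Set H) from
      fun u hu => ⟨hUQ hu, fun v hv => (commute_of_sq hU2 hv hu).eq⟩) ?_).symm
  have e := card_centralizer_mul h U hUQ hzU
  rw [hQc, hUc] at e
  omega

/-- The data below: `U`, `B`, the fixed point free element `x`. -/
structure Data (Q : Subgroup H) (z : H) (U B : Subgroup H) (x : H) : Prop where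
  es : ES Q z
  central : ∀ g : H, Commute g z
  normal : Q.Normal
  cardQ : Nat.card Q = 2 ^ 13
  hUQ : U ≤ Q
  hzU : z ∈ U
  sqU : ∀ u ∈ U, u * u = 1
  cardU : Nat.card U = 2 ^ 7
  hQB : Q ≤ B
  cardB : Nat.card B = 2 ^ 17
  stab : ∀ b ∈ B, ∀ u ∈ U, b * u * b⁻¹ = u ∨ b * u * b⁻¹ = u * z
  cube : x ^ 3 = 1
  normU : ∀ u ∈ U, x * u * x⁻¹ ∈ U
  fpf : ∀ u ∈ U, u ≠ 1 → u ≠ z → x * u * x⁻¹ ≠ u ∧ x * u * x⁻¹ ≠ u * z
  trivB : ∀ b ∈ B, x * b * x⁻¹ * b⁻¹ ∈ Q
  sqB : ∀ b ∈ B, b * b ∈ Q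
  trans : ∀ a ∈ B, ∀ b ∈ B, a ∉ Q → b ∉ Q → ∃ g : H,
    (∀ c ∈ B, g * c * g⁻¹ ∈ B) ∧ (∀ u ∈ U, g * u * g⁻¹ ∈ U) ∧ (g * a * g⁻¹) * b⁻¹ ∈ Q

variable {U B : Subgroup H} {x : H}

theorem Data.centQ (d : Data Q z U B x) : Q ⊓ Subgroup.centralizer (U : Set H) = U :=
  centralizer_eq d.es d.cardQ U d.hUQ d.hzU d.sqU d.cardU

/-- `W = C_B(U)` -/
def Wof (U B : Subgroup H) : Subgroup H := B ⊓ Subgroup.centralizer (U : Set H)

theorem Data.mem_W (d : Data Q z U B x) {w : H} : w ∈ Wof U B ↔ w ∈ B ∧ ∀ u ∈ U, Commute u w :=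
  ⟨fun hw => ⟨hw.1, fun u hu => hw.2 u hu⟩, fun hw => ⟨hw.1, fun u hu => hw.2 u hu⟩⟩

theorem Data.U_le_W (d : Data Q z U B x) : U ≤ Wof U B := fun _ hu =>
  d.mem_W.2 ⟨d.hQB (d.hUQ hu), fun _ hv => commute_of_sq d.sqU hv hu⟩

theorem Data.W_inf_Q (d : Data Q z U B x) {w : H} (hw : w ∈ Wof U B) (hwQ : w ∈ Q) : w ∈ U := by
  have : w ∈ Q ⊓ Subgroup.centralizer (U : Set H) := ⟨hwQ, hw.2⟩
  rwa [d.centQ] at this

/-- every coset of `Q` in `B` meets `C_B(U)` -/
theorem Data.exists_W (d : Data Q z U B x) {b : H} (hb : b ∈ B) :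
    ∃ q ∈ Q, q⁻¹ * b ∈ Wof U B := by
  have hst := d.stab b hb
  have hfa : IsHomOn U (chi b) := by
    intro u hu v hv
    have e : b * (u * v) * b⁻¹ = (b * u * b⁻¹) * (b * v * b⁻¹) := by group
    have hne : ∀ t : H, t * z ≠ t := fun t => fun h => d.es.ne (mul_eq_left.1 h)
    unfold chi
    rcases hst u hu with e1 | e1 <;> rcases hst v hv with e2 | e2 <;> rw [e, e1, e2]
    · simp
    · rw [← mul_assoc]; simp [hne]
    · rw [show u * z * v = u * v * z by rw [mul_assoc, (d.central v).symm.eq, ← mul_assoc]]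
      simp [hne]
    · rw [show u * z * (v * z) = u * v by
        rw [mul_assoc, ← mul_assoc z v z, (d.central v).symm.eq, mul_assoc v z z, d.es.sq, mul_one]]
      simp [hne]; decide
  obtain ⟨q, hq, hqe⟩ := exists_chi d.es U d.hUQ d.sqU (chi b) hfa (chi_eq_zero.2 (d.central b))
  refine ⟨q, hq, d.mem_W.2 ⟨B.mul_mem (B.inv_mem (d.hQB hq)) hb, fun u hu => ?_⟩⟩
  have hq' := hqe u hu
  have key : b * u * b⁻¹ = q * u * q⁻¹ := by
    unfold chi at hq'
    rcases hst u hu with e1 | e1 <;> rcases d.es.conj q hq u (d.hUQ hu) with e2 | e2 <;>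
      rw [e1, e2] <;> rw [e1, e2] at hq'
    · have hne : ¬ (u * z = u) := fun h => d.es.ne (mul_eq_left.1 h)
      simp [hne] at hq'
    · have hne : ¬ (u * z = u) := fun h => d.es.ne (mul_eq_left.1 h)
      simp [hne] at hq'
  have : q⁻¹ * b * u = u * (q⁻¹ * b) := by
    calc q⁻¹ * b * u = q⁻¹ * (b * u * b⁻¹) * b := by group
      _ = q⁻¹ * (q * u * q⁻¹) * b := by rw [key]
      _ = u * (q⁻¹ * b) := by group
  exact this.symm

theorem Data.card_W (d : Data Q z U B x) : Nat.card (Wof U B) = 2 ^ 11 := by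
  have hN : (Q.subgroupOf B).Normal := d.normal.subgroupOf B
  have hWB : Wof U B ≤ B := inf_le_left
  let f : ↥(Wof U B) →* ↥B ⧸ Q.subgroupOf B :=
    (QuotientGroup.mk' (Q.subgroupOf B)).comp (Subgroup.inclusion hWB)
  have hsurj : Function.Surjective f := by
    intro y
    obtain ⟨⟨b, hb⟩, rfl⟩ := QuotientGroup.mk'_surjective _ y
    obtain ⟨q, hq, hw⟩ := d.exists_W hb
    refine ⟨⟨q⁻¹ * b, hw⟩, (QuotientGroup.eq).2 ?_⟩
    show (q⁻¹ * b)⁻¹ * b ∈ Q
    rw [show (q⁻¹ * b)⁻¹ * b = b⁻¹ * q * b by group]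
    simpa using d.normal.conj_mem q hq b⁻¹
  have hker : f.ker = U.subgroupOf (Wof U B) := by
    ext w
    rw [MonoidHom.mem_ker, Subgroup.mem_subgroupOf]
    refine (QuotientGroup.eq_one_iff _).trans ⟨fun h => d.W_inf_Q w.2 h, fun h => d.hUQ h⟩
  have c1 := Subgroup.card_eq_card_quotient_mul_card_subgroup f.ker
  rw [Nat.card_congr (QuotientGroup.quotientKerEquivOfSurjective f hsurj).toEquiv, hker,
    Nat.card_congr (Subgroup.subgroupOfEquivOfLe d.U_le_W).toEquiv, d.cardU] at c1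
  have c2 := Subgroup.card_eq_card_quotient_mul_card_subgroup (Q.subgroupOf B)
  rw [Nat.card_congr (Subgroup.subgroupOfEquivOfLe d.hQB).toEquiv, d.cardQ, d.cardB] at c2
  omega

/-- conjugation by `x` inverts nothing: `v ↦ v (x v x⁻¹)` is onto `U` up to `z` -/
theorem Data.exists_rep (d : Data Q z U B x) {u : H} (hu : u ∈ U) :
    ∃ v ∈ U, u = v * (x * v * x⁻¹) ∨ u = v * (x * v * x⁻¹) * z := by
  have hN : ((Subgroup.zpowers z).subgroupOf U).Normal := by
    refine ⟨fun n hn g => ?_⟩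
    have := commute_of_sq d.sqU g.2 n.2
    rw [show g * n * g⁻¹ = n by exact Subtype.ext (by simp [this.eq])]
    exact hn
  have hzU' : ∀ w ∈ Subgroup.zpowers z, w = 1 ∨ w = z := by
    intro w hw
    obtain ⟨k, rfl⟩ := hw
    rcases Int.even_or_odd k with ⟨m, rfl⟩ | ⟨m, rfl⟩
    · left; show z ^ (m + m) = 1
      rw [← two_mul, zpow_mul, zpow_two, d.es.sq, one_zpow]
    · right; show z ^ (2 * m + 1) = z
      rw [zpow_add, zpow_mul, zpow_two, d.es.sq, one_zpow, one_mul, zpow_one]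
  let g : ↥U →* ↥U := MonoidHom.mk' (fun v => ⟨v.1 * (x * v.1 * x⁻¹), U.mul_mem v.2 (d.normU v v.2)⟩)
    (fun v w => by
      apply Subtype.ext
      show v.1 * w.1 * (x * (v.1 * w.1) * x⁻¹) = v.1 * (x * v.1 * x⁻¹) * (w.1 * (x * w.1 * x⁻¹))
      have hc := commute_of_sq d.sqU w.2 (d.normU v v.2)
      rw [show x * (v.1 * w.1) * x⁻¹ = (x * v.1 * x⁻¹) * (x * w.1 * x⁻¹) by group]
      rw [mul_assoc v.1 w.1, ← mul_assoc w.1 (x * v.1 * x⁻¹), hc.eq]
      simp only [mul_assoc])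
  have hgz : (Subgroup.zpowers z).subgroupOf U ≤ ((Subgroup.zpowers z).subgroupOf U).comap g := by
    intro v hv
    show v.1 * (x * v.1 * x⁻¹) ∈ Subgroup.zpowers z
    rcases hzU' v.1 hv with e | e <;> rw [e]
    · simp
    · rw [(d.central x).eq, mul_inv_cancel_right, d.es.sq]; exact one_mem _
  let gb := QuotientGroup.map _ _ g hgz
  have hinj : Function.Injective gb := by
    rw [injective_iff_map_eq_one]
    intro y hy
    obtain ⟨v, rfl⟩ := QuotientGroup.mk'_surjective _ y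
    have hy' : v.1 * (x * v.1 * x⁻¹) ∈ Subgroup.zpowers z :=
      (QuotientGroup.eq_one_iff (N := (Subgroup.zpowers z).subgroupOf U) (g v)).1 hy
    refine (QuotientGroup.eq_one_iff (N := (Subgroup.zpowers z).subgroupOf U) v).2 ?_
    show v.1 ∈ Subgroup.zpowers z
    by_cases h1 : v.1 = 1
    · rw [h1]; exact one_mem _
    by_cases h2 : v.1 = z
    · rw [h2]; exact Subgroup.mem_zpowers z
    exfalso
    have hf := d.fpf v.1 v.2 h1 h2
    have hvv := d.sqU v.1 v.2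
    rcases hzU' _ hy' with e | e
    · exact hf.1 (by rw [← one_mul (x * v.1 * x⁻¹), ← hvv, mul_assoc, e, mul_one])
    · exact hf.2 (by rw [← one_mul (x * v.1 * x⁻¹), ← hvv, mul_assoc, e])
  obtain ⟨y, hy⟩ := Finite.injective_iff_surjective.1 hinj (QuotientGroup.mk ⟨u, hu⟩)
  obtain ⟨v, rfl⟩ := QuotientGroup.mk'_surjective _ y
  have hm : (g v).1⁻¹ * u ∈ Subgroup.zpowers z :=
    (QuotientGroup.eq (s := (Subgroup.zpowers z).subgroupOf U) (a := g v) (b := ⟨u, hu⟩)).1 hy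
  refine ⟨v.1, v.2, ?_⟩
  rcases hzU' _ hm with e | e
  · left; rw [← mul_one (v.1 * (x * v.1 * x⁻¹)), ← e]; exact (mul_inv_cancel_left _ _).symm
  · right; rw [← e]; exact (mul_inv_cancel_left _ _).symm

theorem Data.x_fix_W (d : Data Q z U B x) {w : H} (hw : w ∈ Wof U B) :
    x * w * x⁻¹ ∈ Wof U B ∧ w⁻¹ * (x * w * x⁻¹) ∈ U := by
  have h1 : x * w * x⁻¹ ∈ B := by
    have := B.mul_mem (d.hQB (d.trivB w hw.1)) hw.1
    simpa using this
  have h2 : x * w * x⁻¹ ∈ Wof U B := by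
    refine d.mem_W.2 ⟨h1, fun u hu => ?_⟩
    have hx2 : x⁻¹ = x ^ 2 := inv_eq_of_mul_eq_one_right (by rw [← pow_succ', d.cube])
    have hu' : x⁻¹ * u * x ∈ U := by
      have := d.normU _ (d.normU u hu)
      rw [show x⁻¹ * u * x = x ^ 2 * u * (x ^ 2)⁻¹ by rw [← hx2, inv_inv], pow_two]
      simpa [mul_assoc] using this
    have hc := ((d.mem_W.1 hw).2 _ hu').eq
    show u * (x * w * x⁻¹) = x * w * x⁻¹ * u
    calc u * (x * w * x⁻¹) = x * (x⁻¹ * u * x * w) * x⁻¹ := by group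
      _ = x * (w * (x⁻¹ * u * x)) * x⁻¹ := by rw [hc]
      _ = x * w * x⁻¹ * u := by group
  refine ⟨h2, d.W_inf_Q ((Wof U B).mul_mem ((Wof U B).inv_mem hw) h2) ?_⟩
  have := d.normal.conj_mem _ (d.trivB w hw.1) w⁻¹
  rw [inv_inv] at this
  rw [show w⁻¹ * (x * w * x⁻¹) = w⁻¹ * (x * w * x⁻¹ * w⁻¹) * w by group]
  exact this

theorem Data.fixed_mem (d : Data Q z U B x) {u : H} (hu : u ∈ U) (h : x * u * x⁻¹ = u) :
    u = 1 ∨ u = z := by
  by_contra hh
  push Not at hh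
  exact (d.fpf u hu hh.1 hh.2).1 h

/-- each coset of `U` in `C_B(U)` contains a fixed point of `x` -/
theorem Data.exists_fixed (d : Data Q z U B x) {w : H} (hw : w ∈ Wof U B) :
    ∃ v ∈ U, x * (w * v) * x⁻¹ = w * v := by
  obtain ⟨-, hu⟩ := d.x_fix_W hw
  obtain ⟨v, hv, he⟩ := d.exists_rep hu
  refine ⟨v, hv, ?_⟩
  have hvx := d.normU v hv
  have hcz := d.central x
  have hconj : ∀ a b : H, x * (a * b) * x⁻¹ = x * a * x⁻¹ * (x * b * x⁻¹) := fun a b => by group
  rcases he with e | e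
  · rw [hconj, show x * w * x⁻¹ = w * (v * (x * v * x⁻¹)) by rw [← e, mul_inv_cancel_left],
      mul_assoc, mul_assoc, d.sqU _ hvx, mul_one]
  · exfalso
    have h1 : x * (w * v) * x⁻¹ = w * v * z := by
      rw [hconj, show x * w * x⁻¹ = w * (v * (x * v * x⁻¹) * z) by rw [← e, mul_inv_cancel_left],
        mul_assoc, mul_assoc (v * (x * v * x⁻¹)), ← (d.central (x * v * x⁻¹)).eq,
        ← mul_assoc (v * (x * v * x⁻¹)), mul_assoc v, d.sqU _ hvx, mul_one, ← mul_assoc]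
    have hmz : ∀ a : H, x * (a * z) * x⁻¹ = x * a * x⁻¹ * z := fun a => by
      rw [hconj, (d.central x).eq, mul_inv_cancel_right]
    have h3 : x * (x * (x * (w * v) * x⁻¹) * x⁻¹) * x⁻¹ = w * v * z * z * z := by
      rw [h1, hmz, h1, hmz, hmz, h1]
    have h4 : x * (x * (x * (w * v) * x⁻¹) * x⁻¹) * x⁻¹ = w * v := by
      have e3 : x * x * x = 1 := by rw [← d.cube, pow_succ, pow_two]
      calc x * (x * (x * (w * v) * x⁻¹) * x⁻¹) * x⁻¹ = (x * x * x) * (w * v) * (x * x * x)⁻¹ := by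
            group
        _ = w * v := by rw [e3]; group
    rw [h4, mul_assoc (w * v * z), d.es.sq, mul_one] at h3
    exact d.es.ne (mul_eq_left.1 h3.symm)

theorem Data.sq_eq (d : Data Q z U B x) {w v : H} (hw : w ∈ Wof U B) (hv : v ∈ U) :
    w * v * (w * v) = w * w := by
  have hc := ((d.mem_W.1 hw).2 v hv).eq
  rw [mul_assoc, ← mul_assoc v, hc, mul_assoc w v v, d.sqU v hv, mul_one]

theorem Data.sq_mem (d : Data Q z U B x) {w : H} (hw : w ∈ Wof U B) : w * w = 1 ∨ w * w = z := by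
  obtain ⟨v, hv, hfix⟩ := d.exists_fixed hw
  refine d.fixed_mem (d.W_inf_Q ((Wof U B).mul_mem hw hw) (d.sqB w hw.1)) ?_
  rw [← d.sq_eq hw hv]
  conv_rhs => rw [← hfix]
  group

theorem Data.comm_mem (d : Data Q z U B x) {a b : H} (ha : a ∈ Wof U B) (hb : b ∈ Wof U B) :
    a * b = b * a ∨ a * b = b * a * z := by
  have hab := (Wof U B).mul_mem ha hb
  have hzi : z⁻¹ = z := inv_eq_of_mul_eq_one_right d.es.sq
  have mul2 : ∀ p q : H, (p = 1 ∨ p = z) → (q = 1 ∨ q = z) → p * q = 1 ∨ p * q = z := by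
    rintro p q (rfl | rfl) (rfl | rfl) <;> simp [d.es.sq]
  have inv2 : ∀ p : H, (p = 1 ∨ p = z) → p⁻¹ = 1 ∨ p⁻¹ = z := by
    rintro p (rfl | rfl) <;> simp [hzi]
  have hk := mul2 _ _ (mul2 _ _ (inv2 _ (d.sq_mem ha)) (d.sq_mem hab)) (inv2 _ (d.sq_mem hb))
  have hba : b * a = a * ((a * a)⁻¹ * (a * b * (a * b)) * (b * b)⁻¹) * b := by group
  rcases hk with e | e
  · left; rw [hba, e, mul_one]
  · right
    rw [hba, e, mul_assoc a z b, ← (d.central b).eq, ← mul_assoc, mul_assoc (a * b), d.es.sq, mul_one]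

/-- `C_B(U)` is elementary abelian -/
theorem Data.W_elem (d : Data Q z U B x) : ∀ w ∈ Wof U B, w * w = 1 := by
  by_contra hh
  push Not at hh
  obtain ⟨w, hw, hne⟩ := hh
  have hwz : w * w = z := (d.sq_mem hw).resolve_left hne
  have hwQ : w ∉ Q := fun h => hne (d.sqU w (d.W_inf_Q hw h))
  have hall : ∀ t ∈ Wof U B, t ∉ Q → t * t = z := by
    intro t ht htQ
    obtain ⟨g, gB, gU, gab⟩ := d.trans w hw.1 t ht.1 hwQ htQ
    have hgw : g * w * g⁻¹ ∈ Wof U B := by
      refine d.mem_W.2 ⟨gB w hw.1, fun u hu => ?_⟩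
      let f : ↥U → ↥U := fun v => ⟨g * v.1 * g⁻¹, gU v v.2⟩
      have hf : Function.Injective f := fun a b hab => by
        have := congrArg Subtype.val hab
        exact Subtype.ext (mul_left_cancel (mul_right_cancel this))
      obtain ⟨⟨v, hv⟩, hv'⟩ := Finite.injective_iff_surjective.1 hf ⟨u, hu⟩
      have hv'' : g * v * g⁻¹ = u := congrArg Subtype.val hv'
      have hc := ((d.mem_W.1 hw).2 v hv).eq
      rw [← hv'']
      show g * v * g⁻¹ * (g * w * g⁻¹) = g * w * g⁻¹ * (g * v * g⁻¹)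
      calc g * v * g⁻¹ * (g * w * g⁻¹) = g * (v * w) * g⁻¹ := by group
        _ = g * (w * v) * g⁻¹ := by rw [hc]
        _ = g * w * g⁻¹ * (g * v * g⁻¹) := by group
    have hu : (g * w * g⁻¹)⁻¹ * t ∈ U := by
      refine d.W_inf_Q ((Wof U B).mul_mem ((Wof U B).inv_mem hgw) ht) ?_
      have h2 := d.normal.conj_mem _ (Q.inv_mem gab) t⁻¹
      rw [inv_inv] at h2
      rw [show (g * w * g⁻¹)⁻¹ * t = t⁻¹ * (g * w * g⁻¹ * t⁻¹)⁻¹ * t by group]
      exact h2
    have := d.sq_eq hgw hu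
    rw [mul_inv_cancel_left] at this
    rw [this, show g * w * g⁻¹ * (g * w * g⁻¹) = g * (w * w) * g⁻¹ by group, hwz,
      (d.central g).eq, mul_inv_cancel_right]
  -- two independent cosets of `U`, and a third one
  have hz := d.central
  have hzi : z⁻¹ = z := inv_eq_of_mul_eq_one_right d.es.sq
  have hanti : ∀ a ∈ Wof U B, ∀ b ∈ Wof U B, a ∉ Q → b ∉ Q → a * b ∉ Q → a * b = b * a * z := by
    intro a ha b hb haQ hbQ habQ
    refine (d.comm_mem ha hb).resolve_left fun hc => ?_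
    have := hall _ ((Wof U B).mul_mem ha hb) habQ
    rw [show a * b * (a * b) = a * a * (b * b) by
      rw [mul_assoc, ← mul_assoc b a b, ← hc]; group, hall a ha haQ, hall b hb hbQ, d.es.sq] at this
    exact d.es.ne this.symm
  have hcard := d.card_W
  obtain ⟨a, b, c, ha, hb, hc, haQ, hbQ, hcQ, hab, hac, hbc, habc⟩ :
      ∃ a b c : H, a ∈ Wof U B ∧ b ∈ Wof U B ∧ c ∈ Wof U B ∧ a ∉ Q ∧ b ∉ Q ∧ c ∉ Q ∧
        a * b ∉ Q ∧ a * c ∉ Q ∧ b * c ∉ Q ∧ a * (b * c) ∉ Q := by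
    have hN : (Q.subgroupOf (Wof U B)).Normal := d.normal.subgroupOf _
    have hq : Nat.card (↥(Wof U B) ⧸ Q.subgroupOf (Wof U B)) = 16 := by
      have := Subgroup.card_eq_card_quotient_mul_card_subgroup (Q.subgroupOf (Wof U B))
      have e : Q.subgroupOf (Wof U B) = U.subgroupOf (Wof U B) := by
        ext t; exact ⟨fun h => d.W_inf_Q t.2 h, fun h => d.hUQ h⟩
      rw [hcard, e, Nat.card_congr (Subgroup.subgroupOfEquivOfLe d.U_le_W).toEquiv, d.cardU] at this
      norm_num at this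
      rw [e]
      omega
    let π := QuotientGroup.mk' (Q.subgroupOf (Wof U B))
    have hsq : ∀ y : ↥(Wof U B) ⧸ Q.subgroupOf (Wof U B), y * y = 1 := by
      intro y
      obtain ⟨t, rfl⟩ := QuotientGroup.mk'_surjective _ y
      exact (QuotientGroup.eq_one_iff _).2 (d.sqB t.1 t.2.1)
    have hc' : ∀ p q : ↥(Wof U B) ⧸ Q.subgroupOf (Wof U B), p * q = q * p := fun p q => by
      have hi : ∀ r : ↥(Wof U B) ⧸ Q.subgroupOf (Wof U B), r⁻¹ = r := fun r =>
        inv_eq_of_mul_eq_one_right (hsq r)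
      rw [← hi (p * q), mul_inv_rev, hi, hi]
    haveI := Fintype.ofFinite (↥(Wof U B) ⧸ Q.subgroupOf (Wof U B))
    classical
    have hpick : ∀ s : Finset (↥(Wof U B) ⧸ Q.subgroupOf (Wof U B)), s.card < 16 → ∃ p, p ∉ s := by
      intro s hs
      by_contra hall'
      push Not at hall'
      rw [Finset.eq_univ_of_forall hall', Finset.card_univ, ← Nat.card_eq_fintype_card, hq] at hs
      omega
    obtain ⟨A, hA⟩ := hpick {1} (by simp)
    obtain ⟨B', hB'⟩ := hpick {1, A} (lt_of_le_of_lt Finset.card_le_two (by norm_num))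
    obtain ⟨C, hC⟩ := hpick {1, A, B', A * B'} (lt_of_le_of_lt Finset.card_le_four (by norm_num))
    obtain ⟨a, rfl⟩ := QuotientGroup.mk'_surjective _ A
    obtain ⟨b, rfl⟩ := QuotientGroup.mk'_surjective _ B'
    obtain ⟨c, rfl⟩ := QuotientGroup.mk'_surjective _ C
    simp only [Finset.mem_insert, Finset.mem_singleton, not_or] at hA hB' hC
    have key : ∀ t : ↥(Wof U B), π t ≠ 1 → t.1 ∉ Q := fun t ht h =>
      ht ((QuotientGroup.eq_one_iff _).2 h)
    have heq : ∀ p q : ↥(Wof U B) ⧸ Q.subgroupOf (Wof U B), p * q = 1 → q = p := fun p q h => by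
      rw [← one_mul q, ← hsq p, mul_assoc, h, mul_one]
    refine ⟨a, b, c, a.2, b.2, c.2, key _ hA, key _ hB'.1, key _ hC.1, key (a * b) ?_, key (a * c) ?_,
      key (b * c) ?_, key (a * (b * c)) ?_⟩
    · rw [map_mul]; exact fun h => hB'.2 (heq _ _ h)
    · rw [map_mul]; exact fun h => hC.2.1 (heq _ _ h)
    · rw [map_mul]; exact fun h => hC.2.2.1 (heq _ _ h)
    · rw [map_mul, map_mul, ← mul_assoc]; exact fun h => hC.2.2.2 (heq _ _ h)
  have hab' := hanti a ha b hb haQ hbQ hab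
  have hac' := hanti a ha c hc haQ hcQ hac
  have habc' := hanti a ha (b * c) ((Wof U B).mul_mem hb hc) haQ hbc habc
  have : a * (b * c) = b * c * a := by
    rw [← mul_assoc, hab', mul_assoc (b * a), ← (hz c).eq, ← mul_assoc, mul_assoc b a c, hac',
      ← mul_assoc, ← mul_assoc, mul_assoc (b * c * a), d.es.sq, mul_one]
  rw [this] at habc'
  exact d.es.ne (mul_eq_left.1 habc'.symm)

theorem Data.W_isElementary (d : Data Q z U B x) : Cfsg.IsElementaryAbelian 2 (Wof U B) :=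
  ⟨⟨⟨fun a b => Subtype.ext (commute_of_sq d.W_elem a.2 b.2).eq⟩⟩,
    fun a ha => by rw [pow_two]; exact d.W_elem a ha⟩

end Cfsg.Agent.Lib.FischerLarge45
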