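import Cfsg.Agent.Lib.FischerLarge45.Table

/-!
Checked facts about the 256 maps of `Table`: a group, seventy-one involutions, and every elementary
abelian subgroup of order 16 other than `b0` fixes at most 8 vectors.
-/

set_option autoImplicit false

namespace Cfsg.Agent.Lib.FischerLarge45.Model

/-- the key of the element `a` -/
def key (a : Nat) : Nat := keys.getD a 0

/-- right multiplication by the generator `j` -/
def tab (a j : Nat) : Nat := (tabN >>> (8 * (8 * a + j))) &&& 255

/-- the digits of the word of `b` (0 = nothing, `j + 1` = generator `j`) -/
def digits (b : Nat) : List Nat := (List.range 5).map fun r => (wordN >>> (20 * b + 4 * r)) &&& 15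

/-- one step -/
def stp (a d : Nat) : Nat := if d = 0 then a else tab a (d - 1)

/-- multiplication -/
def mulT (a b : Nat) : Nat := (digits b).foldl stp a

/-- all products of subsets of a list of elements -/
def span : List Nat → List Nat
  | [] => [eI]
  | i :: l => span l ++ (span l).map (fun t => mulT i t)

/-- a set of elements as a bit mask -/
def mask (l : List Nat) : Nat := l.foldr (fun t m => (1 <<< t) ||| m) 0

theorem mask_testBit (l : List Nat) (t : Nat) : (mask l).testBit t = true ↔ t ∈ l := by
  induction l with
  | nil => simp [mask]
  | cons a l ih =>
    simp only [mask, List.foldr_cons] at ih ⊢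
    rw [Nat.testBit_or, Bool.or_eq_true, ih, List.mem_cons, Nat.shiftLeft_eq, one_mul,
      Nat.testBit_two_pow]
    simp [eq_comm]

/-- the extension check from one level to the next -/
def stepOk (cur : List (Nat × List Nat)) (nxt : List Nat) : Bool :=
  cur.all fun mb => invs.all fun i =>
    mb.1.testBit i || mb.2.any (fun t => mulT i t != mulT t i) || nxt.contains (mask (span (i :: mb.2)))

/-- the linear map `v ↦ (free bits, moved parts)` -/
def psi (b : List Nat) (fm v : Nat) : Nat :=
  match b with
  | [] => v &&& fm
  | t :: l => (psi l fm v) ^^^ ((ap (key t) v ^^^ v) <<< (12 * (l.length + 1)))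

/-- the left inverse -/
def rinv (R : List Nat) (x : Nat) : Nat := sumBits (fun p => R.getD p 0) x (List.range 60)

theorem keys_ok : (List.range 256).all (fun a => (List.range a).all fun b =>
    (List.range 12).any fun j => img (key a) j != img (key b) j) = true := by decide +kernel

theorem tab_ok : (List.range 256).all (fun a => (List.range 8).all fun j =>
    (List.range 12).all fun i => ap (key a) (img (gens.getD j 0) i) == img (key (tab a j)) i) = true := by
  decide +kernel

theorem word_ok : (List.range 256).all (fun b => mulT eI b == b && (digits b).all fun d => decide (d ≤ 8))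
    = true := by decide +kernel

theorem eI_ok : (List.range 12).all (fun i => img (key eI) i == 2 ^ i) = true := by decide +kernel

theorem eI_lt : eI < 256 := by decide +kernel

theorem invs_ok : (List.range 256).all (fun a => (mulT a a != eI || a == eI) || invs.contains a) = true := by
  decide +kernel

theorem invs_len : invs.length < 100 := by decide +kernel

theorem step0 : invs.all (fun i => (lev1.map Prod.fst).contains (mask (span [i]))) = true := by
  decide +kernel

theorem step1 : stepOk lev1 (lev2.map Prod.fst) = true := by decide +kernel

theorem step2 : stepOk lev2 (lev3.map Prod.fst) = true := by decide +kernel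

theorem step3 : stepOk lev3 (lev4.map Prod.fst) = true := by decide +kernel

theorem mask_ok : (lev1.all (fun m => mask (span m.2) == m.1 && m.2.length == 1)
    && lev2.all (fun m => mask (span m.2) == m.1 && m.2.length == 2)
    && lev3.all (fun m => mask (span m.2) == m.1 && m.2.length == 3)
    && lev4.all (fun m => mask (span m.2.1) == m.1 && m.2.1.length == 4)) = true := by decide +kernel

theorem b0_ok : (mask (span b0L) == b0N && b0L.length == 4 && b0L == [tab eI 0, tab eI 1, tab eI 2, tab eI 3])
    = true := by decide +kernel

theorem cert_ok : lev4.all (fun m => m.1 == b0N ||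
    (decide (((List.range 12).filter fun i => m.2.2.1.testBit i).length ≤ 3) && decide (m.2.2.1 < 4096) &&
      (List.range 12).all fun j => rinv m.2.2.2 (psi m.2.1 m.2.2.1 (2 ^ j)) == 2 ^ j)) = true := by
  decide +kernel

/-- the 64 vectors fixed by `b0` -/
def uSet : List Nat := uBasis.foldr (fun b l => l ++ l.map (fun x => x ^^^ b)) [0]

theorem fms_ok : (lev4.all (fun m => m.1 == b0N || fms.contains m.2.2.1)
    && fms.all (fun fm => decide (((List.range 4096).filter fun x => x &&& fm == x).length ≤ 8))) = true := by
  decide +kernel

theorem b0C_ok : (mask (span b0C.1) == b0N && b0C.1.length == 4 &&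
    decide (((List.range 4096).filter fun x => x &&& b0C.2.1 == x).length ≤ 64) &&
    ((List.range 12).all fun j => rinv b0C.2.2 (psi b0C.1 b0C.2.1 (2 ^ j)) == 2 ^ j) &&
    uSet.length == 64 && (uBasis.all fun u => b0L.all fun t => ap (key t) u == u)) = true := by
  decide +kernel

end Cfsg.Agent.Lib.FischerLarge45.Model
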