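import Cfsg.Agent.Lib.FischerLarge45.Check

/-!
The semantic form of `Check`: the only commuting set of involutions among the 256 maps whose order
times the number of commonly fixed vectors (at most 64) reaches `2^10` is `b0`, with `uSet` fixed.
-/

set_option autoImplicit false

namespace Cfsg.Agent.Lib.FischerLarge45.Model

theorem tab_lt (a j : Nat) : tab a j < 256 := lt_of_le_of_lt Nat.and_le_right (by norm_num)

theorem stp_lt {a : Nat} (ha : a < 256) (d : Nat) : stp a d < 256 := by
  unfold stp; split <;> [exact ha; exact tab_lt _ _]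

theorem mulT_lt {a : Nat} (ha : a < 256) (b : Nat) : mulT a b < 256 := by
  unfold mulT
  generalize digits b = l
  induction l generalizing a with
  | nil => exact ha
  | cons d l ih => exact ih (stp_lt ha d)

theorem ap_two_pow (key i : Nat) (hi : i < 12) : ap key (2 ^ i) = img key i := by
  unfold ap
  generalize img key = f
  interval_cases i <;> simp [sumBits, List.range_succ, Nat.testBit, Nat.shiftRight_eq_div_pow]

theorem ap_eq_of_basis {φ : Nat → Nat} (key : Nat)
    (hφ : ∀ a < 4096, ∀ b < 4096, φ (a ^^^ b) = φ a ^^^ φ b)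
    (h : ∀ j < 12, img key j = φ (2 ^ j)) {k : Nat} (hk : k < 4096) : ap key k = φ k :=
  eq_of_basis _ _ (fun a _ b _ => ap_xor key a b) hφ (fun j hj => (ap_two_pow key j hj).trans (h j hj)) hk

theorem tab_sem {a j : Nat} (ha : a < 256) (hj : j < 8) {k : Nat} (hk : k < 4096) :
    ap (key (tab a j)) k = ap (key a) (ap (gens.getD j 0) k) := by
  refine ap_eq_of_basis _ (φ := fun x => ap (key a) (ap (gens.getD j 0) x))
    (fun x _ y _ => by simp only [ap_xor]) (fun i hi => ?_) hk
  have h := List.all_eq_true.1 (List.all_eq_true.1 (List.all_eq_true.1 tab_ok a (List.mem_range.2 ha)) j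
    (List.mem_range.2 hj)) i (List.mem_range.2 hi)
  rw [ap_two_pow _ i hi]
  exact (beq_iff_eq.1 h).symm

theorem eI_sem {k : Nat} (hk : k < 4096) : ap (key eI) k = k := by
  refine ap_eq_of_basis _ (φ := fun x => x) (fun x _ y _ => rfl) (fun i hi => ?_) hk
  exact beq_iff_eq.1 (List.all_eq_true.1 eI_ok i (List.mem_range.2 hi))

/-- the map of a word -/
def wordMap : List Nat → Nat → Nat
  | [], k => k
  | d :: l, k => if d = 0 then wordMap l k else ap (gens.getD (d - 1) 0) (wordMap l k)

theorem wordMap_lt (l : List Nat) {k : Nat} (hk : k < 4096) : wordMap l k < 4096 := by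
  induction l with
  | nil => exact hk
  | cons d l ih => unfold wordMap; split <;> [exact ih; exact ap_lt _ _]

theorem foldl_sem (l : List Nat) (hl : ∀ d ∈ l, d ≤ 8) {a : Nat} (ha : a < 256) {k : Nat} (hk : k < 4096) :
    ap (key (l.foldl stp a)) k = ap (key a) (wordMap l k) := by
  induction l generalizing a with
  | nil => rfl
  | cons d l ih =>
    rw [List.foldl_cons, ih (fun e he => hl e (List.mem_cons_of_mem _ he)) (stp_lt ha d), wordMap]
    by_cases hd : d = 0
    · simp [stp, hd]
    · have : d ≤ 8 := hl d (List.mem_cons_self ..)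
      rw [if_neg hd, show stp a d = tab a (d - 1) from if_neg hd,
        tab_sem ha (by omega) (wordMap_lt l hk)]

theorem mulT_sem {a b : Nat} (ha : a < 256) (hb : b < 256) {k : Nat} (hk : k < 4096) :
    ap (key (mulT a b)) k = ap (key a) (ap (key b) k) := by
  have h := List.all_eq_true.1 word_ok b (List.mem_range.2 hb)
  rw [Bool.and_eq_true, beq_iff_eq, List.all_eq_true] at h
  have hd : ∀ d ∈ digits b, d ≤ 8 := fun d hd => of_decide_eq_true (h.2 d hd)
  rw [show mulT a b = (digits b).foldl stp a from rfl, foldl_sem _ hd ha hk]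
  conv_rhs => rw [← h.1, show mulT eI b = (digits b).foldl stp eI from rfl, foldl_sem _ hd eI_lt hk,
    eI_sem (wordMap_lt _ hk)]

theorem key_inj {a b : Nat} (ha : a < 256) (hb : b < 256)
    (h : ∀ k < 4096, ap (key a) k = ap (key b) k) : a = b := by
  have main : ∀ x y, x < 256 → y < x → ¬ ∀ k < 4096, ap (key x) k = ap (key y) k := by
    intro x y hx hy hh
    obtain ⟨i, hi, hne⟩ := List.any_eq_true.1
      (List.all_eq_true.1 (List.all_eq_true.1 keys_ok x (List.mem_range.2 hx)) y (List.mem_range.2 hy))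
    have hi' := List.mem_range.1 hi
    have hp : 2 ^ i < 4096 := lt_of_lt_of_le (Nat.pow_lt_pow_right (by norm_num) hi') (by norm_num)
    exact (bne_iff_ne.1 hne) (by rw [← ap_two_pow _ i hi', ← ap_two_pow _ i hi']; exact hh _ hp)
  rcases lt_trichotomy a b with hlt | hlt | hlt
  · exact absurd (fun k hk => (h k hk).symm) (main b a hb hlt)
  · exact hlt
  · exact absurd h (main a b ha hlt)

theorem span_length (l : List Nat) : (span l).length = 2 ^ l.length := by
  induction l with
  | nil => rfl
  | cons i l ih => simp [span, ih, pow_succ, Nat.mul_two]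

theorem eI_mem_span (l : List Nat) : eI ∈ span l := by
  induction l with
  | nil => exact List.mem_singleton_self _
  | cons i l ih => exact List.mem_append_left _ ih

/-- A commuting set of involutions closed under multiplication -/
structure Elem (S : Finset Nat) : Prop where
  lt : ∀ a ∈ S, a < 256
  one : eI ∈ S
  mul : ∀ a ∈ S, ∀ b ∈ S, mulT a b ∈ S
  invol : ∀ a ∈ S, ∀ k < 4096, ap (key a) (ap (key a) k) = k
  comm : ∀ a ∈ S, ∀ b ∈ S, ∀ k < 4096, ap (key a) (ap (key b) k) = ap (key b) (ap (key a) k)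

variable {S : Finset Nat}

theorem Elem.span_sub (h : Elem S) {l : List Nat} (hl : ∀ t ∈ l, t ∈ S) : ∀ t ∈ span l, t ∈ S := by
  induction l with
  | nil => intro t ht; rw [List.mem_singleton.1 ht]; exact h.one
  | cons i l ih =>
    have ih' := ih fun t ht => hl t (List.mem_cons_of_mem _ ht)
    intro t ht
    rcases List.mem_append.1 ht with ht | ht
    · exact ih' t ht
    · obtain ⟨u, hu, rfl⟩ := List.mem_map.1 ht
      exact h.mul i (hl i (List.mem_cons_self ..)) u (ih' u hu)

theorem Elem.mulT_self (h : Elem S) {a : Nat} (ha : a ∈ S) : mulT a a = eI :=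
  key_inj (mulT_lt (h.lt a ha) a) eI_lt fun k hk => by
    rw [mulT_sem (h.lt a ha) (h.lt a ha) hk, h.invol a ha k hk, eI_sem hk]

theorem Elem.mulT_comm (h : Elem S) {a b : Nat} (ha : a ∈ S) (hb : b ∈ S) : mulT a b = mulT b a :=
  key_inj (mulT_lt (h.lt a ha) b) (mulT_lt (h.lt b hb) a) fun k hk => by
    rw [mulT_sem (h.lt a ha) (h.lt b hb) hk, mulT_sem (h.lt b hb) (h.lt a ha) hk, h.comm a ha b hb k hk]

theorem Elem.mem_invs (h : Elem S) {a : Nat} (ha : a ∈ S) (h1 : a ≠ eI) : a ∈ invs := by
  have := List.all_eq_true.1 invs_ok a (List.mem_range.2 (h.lt a ha))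
  simpa [h.mulT_self ha, h1] using this

theorem Elem.card_lt (h : Elem S) : S.card ≤ 100 := by
  classical
  have : S ⊆ insert eI invs.toFinset := fun a ha => by
    by_cases h1 : a = eI
    · exact h1 ▸ Finset.mem_insert_self _ _
    · exact Finset.mem_insert_of_mem (List.mem_toFinset.2 (h.mem_invs ha h1))
  refine (Finset.card_le_card this).trans ((Finset.card_insert_le _ _).trans ?_)
  have := invs.toFinset_card_le
  have := invs_len
  omega

theorem mask_inj {l l' : List Nat} (h : mask l = mask l') {t : Nat} : t ∈ l ↔ t ∈ l' := by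
  rw [← mask_testBit, ← mask_testBit, h]

/-- one step up -/
theorem Elem.step (h : Elem S) {cur : List (Nat × List Nat)} {nxt : List Nat}
    (hok : stepOk cur nxt = true) {m : Nat} {b : List Nat} (hmb : (m, b) ∈ cur) (hm : mask (span b) = m)
    (hb : ∀ t ∈ b, t ∈ S) (hlt : 2 ^ b.length < S.card) :
    ∃ i ∈ S, mask (span (i :: b)) ∈ nxt := by
  classical
  obtain ⟨i, hi, hni⟩ : ∃ i ∈ S, i ∉ span b := by
    by_contra hh
    push Not at hh
    have := Finset.card_le_card (show S ⊆ (span b).toFinset from fun i hi => List.mem_toFinset.2 (hh i hi))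
    have := (span b).toFinset_card_le
    rw [span_length] at this
    omega
  have h1 : i ≠ eI := fun e => hni (e ▸ eI_mem_span b)
  have := List.all_eq_true.1 (List.all_eq_true.1 hok (m, b) hmb) i (h.mem_invs hi h1)
  simp only [Bool.or_eq_true] at this
  rcases this with (hh | hh) | hh
  · rw [← hm, mask_testBit] at hh; exact absurd hh hni
  · obtain ⟨t, ht, hne⟩ := List.any_eq_true.1 hh
    exact absurd (h.mulT_comm hi (hb t ht)) (bne_iff_ne.1 hne)
  · exact ⟨i, hi, List.contains_iff_mem.1 hh⟩

/-- transfer membership along equal masks -/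
theorem Elem.of_mask (h : Elem S) {i : Nat} {b b' : List Nat} (hi : i ∈ S) (hb : ∀ t ∈ b, t ∈ S)
    (e : mask (span (i :: b)) = mask (span b')) : ∀ t ∈ span b', t ∈ S := fun _ ht =>
  h.span_sub (List.forall_mem_cons.2 ⟨hi, hb⟩) _ ((mask_inj e).2 ht)

theorem mem_span_self {i : Nat} {l : List Nat} (hl : ∀ t ∈ l, t < 256) : i < 256 → i ∈ l → i ∈ span l := by
  intro hi256 hil
  have hr : ∀ a < 256, mulT a eI = a := fun a ha => key_inj (mulT_lt ha eI) ha fun k hk => by
    rw [mulT_sem ha eI_lt hk, eI_sem hk]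
  induction l with
  | nil => cases hil
  | cons j l ih =>
    rcases List.mem_cons.1 hil with rfl | hil
    · exact List.mem_append_right _ (List.mem_map.2 ⟨eI, eI_mem_span l, hr i hi256⟩)
    · exact List.mem_append_left _ (ih (fun t ht => hl t (List.mem_cons_of_mem _ ht)) hil)

theorem Elem.chain (h : Elem S) (h16 : 16 ≤ S.card) {a : Nat} (ha : a ∈ S) (ha1 : a ≠ eI) :
    ∃ m ∈ lev4, (∀ t ∈ span m.2.1, t ∈ S) ∧ a ∈ span m.2.1 ∧ ∀ t ∈ m.2.1, t ∈ S := by
  classical
  obtain ⟨⟨⟨m1ok, m2ok⟩, m3ok⟩, m4ok⟩ : ((lev1.all (fun m => mask (span m.2) == m.1 && m.2.length == 1) = true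
      ∧ lev2.all (fun m => mask (span m.2) == m.1 && m.2.length == 2) = true)
      ∧ lev3.all (fun m => mask (span m.2) == m.1 && m.2.length == 3) = true)
      ∧ lev4.all (fun m => mask (span m.2.1) == m.1 && m.2.1.length == 4) = true := by
    simpa only [Bool.and_eq_true] using mask_ok
  have hself : ∀ l : List Nat, (∀ t ∈ span l, t ∈ S) → (∀ t ∈ l, t < 256) → ∀ t ∈ l, t ∈ S :=
    fun l hs hl t ht => hs t (mem_span_self hl (hl t ht) ht)
  have := List.all_eq_true.1 step0 a (h.mem_invs ha ha1)
  obtain ⟨⟨m1, b1⟩, hm1, e1⟩ := List.mem_map.1 (List.contains_iff_mem.1 this)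
  have f1 := List.all_eq_true.1 m1ok _ hm1
  simp only [Bool.and_eq_true, beq_iff_eq] at f1 e1
  have s1 := h.of_mask ha (b := []) (by simp) (e1.symm.trans f1.1.symm)
  have a1 : a ∈ span b1 := (mask_inj (e1.symm.trans f1.1.symm)).1
    (mem_span_self (fun t ht => h.lt t (by simp at ht; exact ht ▸ ha)) (h.lt a ha) (List.mem_singleton_self a))
  have lt1 : ∀ t ∈ b1, t < 256 := lt256 hm1 (Or.inl rfl)
  have g1 := hself b1 s1 lt1
  obtain ⟨i2, hi2, hn2⟩ := h.step step1 hm1 f1.1 g1 (by rw [f1.2]; omega)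
  obtain ⟨⟨m2, b2⟩, hm2, e2⟩ := List.mem_map.1 hn2
  have f2 := List.all_eq_true.1 m2ok _ hm2
  simp only [Bool.and_eq_true, beq_iff_eq] at f2 e2
  have s2 := h.of_mask hi2 g1 (e2.symm.trans f2.1.symm)
  have a2 : a ∈ span b2 := (mask_inj (e2.symm.trans f2.1.symm)).1 (List.mem_append_left _ a1)
  have g2 := hself b2 s2 (lt256 hm2 (Or.inr (Or.inl rfl)))
  obtain ⟨i3, hi3, hn3⟩ := h.step step2 hm2 f2.1 g2 (by rw [f2.2]; omega)
  obtain ⟨⟨m3, b3⟩, hm3, e3⟩ := List.mem_map.1 hn3
  have f3 := List.all_eq_true.1 m3ok _ hm3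
  simp only [Bool.and_eq_true, beq_iff_eq] at f3 e3
  have s3 := h.of_mask hi3 g2 (e3.symm.trans f3.1.symm)
  have a3 : a ∈ span b3 := (mask_inj (e3.symm.trans f3.1.symm)).1 (List.mem_append_left _ a2)
  have g3 := hself b3 s3 (lt256 hm3 (Or.inr (Or.inr rfl)))
  obtain ⟨i4, hi4, hn4⟩ := h.step step3 hm3 f3.1 g3 (by rw [f3.2]; omega)
  obtain ⟨⟨m4, b4, fm, R⟩, hm4, e4⟩ := List.mem_map.1 hn4
  have f4 := List.all_eq_true.1 m4ok _ hm4
  simp only [Bool.and_eq_true, beq_iff_eq] at f4 e4
  have s4 := h.of_mask hi4 g3 (e4.symm.trans f4.1.symm)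
  refine ⟨_, hm4, s4, (mask_inj (e4.symm.trans f4.1.symm)).1 (List.mem_append_left _ a3), ?_⟩
  exact hself b4 s4 (lt256' hm4)
where
  lt256 {cur : List (Nat × List Nat)} {m : Nat} {b : List Nat} (hm : (m, b) ∈ cur)
      (hc : cur = lev1 ∨ cur = lev2 ∨ cur = lev3) : ∀ t ∈ b, t < 256 := by
    have aux : (lev1.all (fun m => m.2.all fun t => decide (t < 256)) &&
        lev2.all (fun m => m.2.all fun t => decide (t < 256)) &&
        lev3.all (fun m => m.2.all fun t => decide (t < 256))) = true := by decide +kernel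
    simp only [Bool.and_eq_true, List.all_eq_true, decide_eq_true_eq] at aux
    rcases hc with rfl | rfl | rfl
    · exact aux.1.1 _ hm
    · exact aux.1.2 _ hm
    · exact aux.2 _ hm
  lt256' {m : Nat × List Nat × Nat × List Nat} (hm : m ∈ lev4) : ∀ t ∈ m.2.1, t < 256 := by
    have aux : lev4.all (fun m => m.2.1.all fun t => decide (t < 256)) = true := by decide +kernel
    simp only [List.all_eq_true, decide_eq_true_eq] at aux
    exact aux _ hm

theorem psi_xor (b : List Nat) (fm x y : Nat) : psi b fm (x ^^^ y) = psi b fm x ^^^ psi b fm y := by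
  induction b with
  | nil => simp [psi, Nat.and_xor_distrib_right]
  | cons t l ih =>
    simp only [psi, ih, ap_xor]
    rw [show ap (key t) x ^^^ ap (key t) y ^^^ (x ^^^ y) = (ap (key t) x ^^^ x) ^^^ (ap (key t) y ^^^ y) by
      rw [Nat.xor_assoc, Nat.xor_assoc, Nat.xor_left_comm (ap (key t) y)], Nat.shiftLeft_xor_distrib,
      Nat.xor_assoc, Nat.xor_assoc, Nat.xor_left_comm (psi l fm y)]

theorem psi_fixed (b : List Nat) (fm v : Nat) (h : ∀ t ∈ b, ap (key t) v = v) : psi b fm v = v &&& fm := by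
  induction b with
  | nil => rfl
  | cons t l ih =>
    rw [psi, ih fun u hu => h u (List.mem_cons_of_mem _ hu), h t (List.mem_cons_self ..)]
    simp

theorem card_fixed_le (b : List Nat) (fm : Nat) (R : List Nat) (n : Nat)
    (hn : ((List.range 4096).filter fun x => x &&& fm == x).length ≤ n)
    (hR : ((List.range 12).all fun j => rinv R (psi b fm (2 ^ j)) == 2 ^ j) = true)
    (F : Finset Nat) (hlt : ∀ v ∈ F, v < 4096) (hfix : ∀ v ∈ F, ∀ t ∈ b, ap (key t) v = v) :
    F.card ≤ n := by
  classical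
  have hid : ∀ v ∈ F, rinv R (v &&& fm) = v := by
    intro v hv
    rw [← psi_fixed b fm v (hfix v hv)]
    refine eq_of_basis (fun x => rinv R (psi b fm x)) (fun x => x)
      (fun x _ y _ => by simp only [psi_xor, rinv]; exact sumBits_xor _ _ _ _) (fun x _ y _ => rfl)
      (fun j hj => beq_iff_eq.1 (List.all_eq_true.1 hR j (List.mem_range.2 hj))) (hlt v hv)
  refine le_trans ?_ (le_trans (List.toFinset_card_le _) hn)
  refine Finset.card_le_card_of_injOn (fun v => v &&& fm) (fun v hv => ?_) fun x hx y hy e => ?_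
  · simp only [Finset.mem_coe, List.mem_toFinset, List.mem_filter, List.mem_range, beq_iff_eq]
    exact ⟨lt_of_le_of_lt Nat.and_le_left (hlt v hv), by rw [Nat.and_assoc, Nat.and_self]⟩
  · rw [← hid x hx, ← hid y hy]; exact congrArg _ e

/-- The main statement. -/
theorem Elem.small (h : Elem S) (F : Finset Nat) (hlt : ∀ v ∈ F, v < 4096)
    (hfix : ∀ a ∈ S, ∀ v ∈ F, ap (key a) v = v) (h64 : F.card ≤ 64) (hbig : 2 ^ 10 ≤ S.card * F.card) :
    S = (span b0L).toFinset ∧ F = uSet.toFinset := by
  classical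
  have h16 : 16 ≤ S.card := by nlinarith
  obtain ⟨⟨hb0m, hb0l⟩, -⟩ : (mask (span b0L) = b0N ∧ b0L.length = 4) ∧
      b0L = [tab eI 0, tab eI 1, tab eI 2, tab eI 3] := by
    simpa only [Bool.and_eq_true, beq_iff_eq] using b0_ok
  have hsub : S ⊆ (span b0L).toFinset := by
    intro a ha
    rw [List.mem_toFinset]
    by_contra hn
    obtain ⟨m, hm, hs, ham, hb⟩ := h.chain h16 ha fun e => hn (e ▸ eI_mem_span _)
    have hne : (m.1 == b0N) = false := by
      rw [beq_eq_false_iff_ne]
      intro e
      have hmk : mask (span m.2.1) = m.1 := by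
        have := mask_ok
        simp only [Bool.and_eq_true, List.all_eq_true, beq_iff_eq] at this
        exact (this.2 _ hm).1
      exact hn ((mask_inj (hb0m.trans (e.symm.trans hmk.symm))).2 ham)
    have hc := List.all_eq_true.1 cert_ok m hm
    simp only [hne, Bool.false_or, Bool.and_eq_true] at hc
    have hf := fms_ok
    simp only [Bool.and_eq_true, List.all_eq_true] at hf
    have hfm := hf.1 m hm
    rw [hne, Bool.false_or] at hfm
    have h8 := card_fixed_le m.2.1 m.2.2.1 m.2.2.2 8
      (of_decide_eq_true (hf.2 _ (List.contains_iff_mem.1 hfm))) hc.2 F hlt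
      (fun v hv t ht => hfix t (hb t ht) v hv)
    have := h.card_lt
    nlinarith
  have hcard : (span b0L).toFinset.card ≤ 16 := (List.toFinset_card_le _).trans (by rw [span_length, hb0l]; norm_num)
  have hS : S = (span b0L).toFinset := Finset.eq_of_subset_of_card_le hsub (hcard.trans h16)
  refine ⟨hS, ?_⟩
  have hS16 : S.card ≤ 16 := hS ▸ hcard
  have hF : 64 ≤ F.card := by nlinarith
  obtain ⟨⟨⟨⟨⟨c1, c2⟩, c3⟩, c4⟩, c5⟩, c6⟩ :
      ((((mask (span b0C.1) = b0N ∧ b0C.1.length = 4) ∧
      ((List.range 4096).filter fun x => x &&& b0C.2.1 == x).length ≤ 64) ∧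
      ((List.range 12).all fun j => rinv b0C.2.2 (psi b0C.1 b0C.2.1 (2 ^ j)) == 2 ^ j) = true) ∧
      uSet.length = 64) ∧ (uBasis.all fun u => b0L.all fun t => ap (key t) u == u) = true := by
    have := b0C_ok
    simp only [Bool.and_eq_true, beq_iff_eq, decide_eq_true_eq] at this
    exact this
  have hUfix : ∀ v ∈ uSet, ∀ t ∈ b0L, ap (key t) v = v := by
    intro v hv t ht
    have gen : ∀ l : List Nat, (∀ u ∈ l, ap (key t) u = u) →
        ∀ w ∈ l.foldr (fun b acc => acc ++ acc.map (fun x => x ^^^ b)) [0], ap (key t) w = w := by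
      intro l hl
      induction l with
      | nil =>
        intro w hw
        rw [List.mem_singleton.1 hw]
        have := ap_xor (key t) 0 0
        simpa using this
      | cons b l ih =>
        intro w hw
        rcases List.mem_append.1 hw with hw | hw
        · exact ih (fun u hu => hl u (List.mem_cons_of_mem _ hu)) w hw
        · obtain ⟨x, hx, rfl⟩ := List.mem_map.1 hw
          rw [ap_xor, ih (fun u hu => hl u (List.mem_cons_of_mem _ hu)) x hx, hl b (List.mem_cons_self ..)]
    exact gen uBasis (fun u hu => beq_iff_eq.1 (List.all_eq_true.1 (List.all_eq_true.1 c6 u hu) t ht)) v hv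
  have hnd : uSet.Nodup ∧ (∀ v ∈ uSet, v < 4096) ∧ ∀ t ∈ b0C.1, t < 256 := by
    refine ⟨by decide +kernel, ?_, ?_⟩ <;> decide +kernel
  have hbig' : (uSet.toFinset ∪ F).card ≤ 64 := by
    refine card_fixed_le b0C.1 b0C.2.1 b0C.2.2 64 c3 c4 _ (fun v hv => ?_) fun v hv t ht => ?_
    · rcases Finset.mem_union.1 hv with hv | hv
      · exact hnd.2.1 v (List.mem_toFinset.1 hv)
      · exact hlt v hv
    · have htS : t ∈ span b0L := (mask_inj (hb0m.trans c1.symm)).2 (mem_span_self hnd.2.2 (hnd.2.2 t ht) ht)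
      rcases Finset.mem_union.1 hv with hv | hv
      · -- products of the generators of `b0` fix `uSet`
        have gen : ∀ l : List Nat, (∀ s ∈ l, s ∈ S ∧ ap (key s) v = v) → ∀ u ∈ span l, ap (key u) v = v := by
          intro l hl
          induction l with
          | nil => intro u hu; rw [List.mem_singleton.1 hu]; exact eI_sem (hnd.2.1 v (List.mem_toFinset.1 hv))
          | cons i l ih =>
            have ih' := ih fun s hs => hl s (List.mem_cons_of_mem _ hs)
            have hsp := h.span_sub (fun s hs => (hl s (List.mem_cons_of_mem _ hs)).1)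
            intro u hu
            rcases List.mem_append.1 hu with hu | hu
            · exact ih' u hu
            · obtain ⟨w, hw, rfl⟩ := List.mem_map.1 hu
              obtain ⟨hiS, hiv⟩ := hl i (List.mem_cons_self ..)
              rw [mulT_sem (h.lt i hiS) (h.lt w (hsp w hw)) (hnd.2.1 v (List.mem_toFinset.1 hv)),
                ih' w hw, hiv]
        have hb0lt : ∀ s ∈ b0L, s < 256 := by decide +kernel
        exact gen b0L (fun s hs => ⟨hS ▸ List.mem_toFinset.2 (mem_span_self hb0lt (hb0lt s hs) hs),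
          hUfix v (List.mem_toFinset.1 hv) s hs⟩) t htS
      · exact hfix t (hS ▸ List.mem_toFinset.2 htS) v hv
  have hu64 : uSet.toFinset.card = 64 := by rw [List.toFinset_card_of_nodup hnd.1, c5]
  have e1 : uSet.toFinset = uSet.toFinset ∪ F :=
    Finset.eq_of_subset_of_card_le Finset.subset_union_left (by omega)
  have e2 : F = uSet.toFinset ∪ F :=
    Finset.eq_of_subset_of_card_le Finset.subset_union_right (by omega)
  exact e2.trans e1.symm

end Cfsg.Agent.Lib.FischerLarge45.Model
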