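import Cfsg.Agent.Lib.FischerLarge45.Check

/-! Generated words in `A, B, Bq, d, w` and the semilinear element. -/

set_option autoImplicit false

namespace Cfsg.Agent.Lib.FischerLarge45.Model

def base : List Nat := [11151733729382121564830468047283829256257540, 11151733894906779683522160749944628186218500, 696984022740949643390677173920563621535745, 11151733894906779683522195341809966829809666, 294063790019574581164056987547197724165440, 16726920277616186443403424698584278178512900]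

def keyP : Nat := 11151733894906779683522195341809829206327300

def genWords : List (List Nat) := [[1, 1, 0, 2],
   [1, 4, 4],
   [0, 0, 0, 0, 4, 1, 3, 2, 0, 0, 0, 4, 4, 4, 0, 2, 0, 2, 4],
   [1, 4, 4, 4, 0, 2, 1, 1, 4],
   [5],
   [0, 2, 1, 2, 0, 0, 0],
   [1, 4, 4, 0, 0, 0, 4, 4, 4, 1, 3, 0, 0, 2, 0, 0, 0, 1, 4, 4],
   [0, 2, 1, 0, 0, 0, 1, 1, 4, 1, 0, 0, 5, 0, 2, 1, 1, 1, 4, 1]]

/-- key, word, word of the inverse, image of `b0L[0]`, conjugates of `b0L`, inverse conjugates -/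
def transRows : List (Nat × List Nat × List Nat × Nat × List Nat × List Nat) := [(11151733894906779683522195341810241573494785, [], [], 48, [48, 49, 58, 62], [48, 49, 58, 62]),
   (2787934096878376400718329110945533266100240, [0, 2, 1], [1, 1, 2, 2, 0, 0, 0, 0], 49, [49, 48, 71, 63], [49, 48, 71, 63]),
   (245039205997563136476688303527754496216640, [1, 1, 4, 1], [1, 1, 4, 4, 4, 1, 1, 1, 1], 62, [62, 49, 154, 48], [62, 49, 154, 48]),
   (696983368431673730220137209003860404732160, [2, 0, 0, 0], [0, 0, 0, 0, 0, 0, 0, 0, 0, 0, 0, 0, 2, 2], 144, [144, 48, 154, 158], [49, 144, 59, 63]),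
   (1154487721121884075642976752943015749754115, [3, 0, 4, 3, 1, 3], [3, 3, 1, 1, 3, 3, 4, 4, 4, 0, 0, 0, 0, 3, 3], 59, [59, 48, 158, 49], [49, 62, 63, 167]),
   (1328691818868286353948205036069931518532355, [3, 3, 0, 3, 2, 4, 0], [0, 0, 0, 0, 4, 4, 4, 2, 2, 3, 3, 0, 0, 0, 0, 3, 3, 3, 3], 71, [71, 166, 158, 49], [144, 62, 155, 167]),
   (18297345011560828078256720887239206190477390, [2, 3, 0, 0, 2, 2, 4], [4, 4, 4, 2, 2, 2, 2, 0, 0, 0, 0, 0, 0, 0, 0, 3, 3, 2, 2], 158, [158, 49, 70, 144], [158, 49, 70, 144]),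
   (1176255160078298324643240865776954508323585, [0, 2, 1, 1, 1, 4, 1], [1, 1, 4, 4, 4, 1, 1, 1, 1, 1, 1, 2, 2, 0, 0, 0, 0], 63, [63, 48, 166, 49], [49, 62, 155, 63]),
   (4541666014805873394830566211899741391979540, [0, 0, 0, 1, 1, 4, 1, 0, 0], [0, 0, 0, 0, 0, 0, 0, 0, 1, 1, 4, 4, 4, 1, 1, 1, 1, 0, 0, 0, 0, 0, 0, 0, 0, 0, 0, 0, 0], 159, [159, 155, 158, 62], [159, 167, 63, 62]),
   (5243498408179298551895453662178475417652260, [0, 0, 0, 3, 1, 5, 4, 0, 1], [1, 1, 0, 0, 0, 0, 4, 4, 4, 5, 1, 1, 3, 3, 0, 0, 0, 0, 0, 0, 0, 0, 0, 0, 0, 0], 155, [155, 167, 59, 58], [159, 155, 62, 158]),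
   (8378094233670336852749792471546367879053460, [4, 4, 4, 3, 4, 1, 0, 0, 4], [4, 4, 4, 0, 0, 0, 0, 0, 0, 0, 0, 1, 1, 4, 4, 4, 3, 3, 4, 4, 4, 4, 4, 4, 4, 4, 4], 166, [166, 48, 63, 144], [49, 158, 155, 167]),
   (1465610861246776780303876005760445482339440, [0, 0, 0, 3, 0, 2, 4, 3, 3], [3, 3, 3, 3, 4, 4, 4, 2, 2, 0, 0, 0, 0, 3, 3, 0, 0, 0, 0, 0, 0, 0, 0, 0, 0, 0, 0], 58, [58, 144, 63, 48], [62, 158, 48, 154]),
   (386834614793331168156388381492884945307440, [0, 2, 1, 3, 0, 4, 3, 1, 3], [3, 3, 1, 1, 3, 3, 4, 4, 4, 0, 0, 0, 0, 3, 3, 1, 1, 2, 2, 0, 0, 0, 0], 70, [70, 49, 158, 48], [62, 49, 166, 154]),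
   (3528478925837038360527031955956443780294705, [5, 0, 0, 0, 3, 1, 5, 4, 0, 1], [1, 1, 0, 0, 0, 0, 4, 4, 4, 5, 1, 1, 3, 3, 0, 0, 0, 0, 0, 0, 0, 0, 0, 0, 0, 0, 5], 167, [167, 155, 71, 70], [159, 155, 63, 158]),
   (9824979181034269752526942470429519645454545, [5, 4, 4, 4, 3, 4, 1, 0, 0, 4], [4, 4, 4, 0, 0, 0, 0, 0, 0, 0, 0, 1, 1, 4, 4, 4, 3, 3, 4, 4, 4, 4, 4, 4, 4, 4, 4, 5], 154, [154, 48, 63, 144], [49, 158, 63, 167])]

end Cfsg.Agent.Lib.FischerLarge45.Model
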