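import Cfsg.Agent.Lib.FischerLarge45.Stabiliser
import Cfsg.Agent.Lib.FischerLarge45.Small
import Cfsg.Agent.Lib.FischerLarge45.Words

/-!
The 256 maps of the table and the fifteen conjugating maps are induced by elements of `C(z)/Q`.
-/

set_option autoImplicit false
set_option linter.style.haveILetI false
set_option linter.unusedSectionVars false

namespace Cfsg.Agent.Lib.FischerLarge45.Lifts

open Cfsg.Agent.Lib.LargeFischer13
open Cfsg.Agent.Lib.LargeFischer13.Model (Ph move moveC)
open Cfsg.Agent.Lib.FischerLarge45.Model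
open Cfsg.Agent.Lib.FischerLarge45.Codes
open Cfsg.Agent.Lib.FischerLarge45.Stabiliser

/-- the composition of a word in `base` -/
def wf : List Nat → Nat → Nat
  | [], k => k
  | j :: l, k => ap (base.getD j 0) (wf l k)

theorem wf_lt (l : List Nat) {k : Nat} (hk : k < 4096) : wf l k < 4096 := by
  induction l with
  | nil => exact hk
  | cons j l _ => exact ap_lt _ _

theorem wf_xor (l : List Nat) (a b : Nat) : wf l (a ^^^ b) = wf l a ^^^ wf l b := by
  induction l with
  | nil => rfl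
  | cons j l ih => simp only [wf, ih, ap_xor]

/-- `w`, then the transposition -/
def xw (k : Nat) : Nat := ap (base.getD 4 0) (mv (Equiv.swap 0 1) 0 k)

/-- the word `x A x A x Q A x A A x` -/
def relMap (k : Nat) : Nat :=
  let A := ap (base.getD 0 0)
  let B := ap (base.getD 2 0)
  xw (A (xw (A (xw (B (A (xw (A (A (xw k))))))))))

theorem base_ok : ((List.range 12).all fun i =>
    img (base.getD 0 0) i == mv (Equiv.swap 0 1 * Equiv.swap 1 2 * Equiv.swap 2 3 * Equiv.swap 3 4) 0 (2 ^ i) &&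
    img (base.getD 1 0) i == mv (Equiv.swap 0 1 * Equiv.swap 1 2) 0 (2 ^ i) &&
    img (base.getD 2 0) i == mv (Equiv.swap 3 4 * Equiv.swap 4 5) 0 (2 ^ i) &&
    img (base.getD 3 0) i == mv 1 ![1, 2, 0, 0, 0, 0] (2 ^ i) &&
    img (base.getD 5 0) i == mvC (Equiv.swap 0 1) 0 (2 ^ i) &&
    omega (ap (base.getD 4 0) (2 ^ i)) == ap (base.getD 4 0) (omega (2 ^ i)) &&
    wf [4, 4, 4, 4] (2 ^ i) == 2 ^ i &&
    relMap (2 ^ i) == mv (Equiv.swap 0 5 * Equiv.swap 5 1 * Equiv.swap 3 4) ![1, 2, 0, 1, 2, 0] (2 ^ i)) = true := by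
  decide +kernel

theorem w_q_ok : (List.range 4096).all (fun k =>
    (qn (ap (base.getD 4 0) k) == qn k) && (!inU k || inU (ap (base.getD 4 0) k))) = true := by decide +kernel

theorem words_ok : (List.range 8).all (fun j => (List.range 12).all fun i =>
    img (gens.getD j 0) i == wf (genWords.getD j []) (2 ^ i) && (genWords.getD j []).all (fun t => decide (t < 6)))
    = true := by decide +kernel

theorem rows_ok : transRows.all (fun r => ((List.range 12).all fun i => img r.1 i == wf r.2.1 (2 ^ i)) &&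
    r.2.1.all (fun t => decide (t < 6)) &&
    ((List.range 12).all fun i => ap r.1 (img (key (b0L.getD 0 0)) i) == ap (key r.2.2.2.1) (img r.1 i)) &&
    ((List.range 4).all fun j => decide (r.2.2.2.2.1.getD j 0 ∈ span b0L) && (List.range 12).all fun i =>
      ap r.1 (img (key (b0L.getD j 0)) i) == ap (key (r.2.2.2.2.1.getD j 0)) (img r.1 i)) &&
    uBasis.all fun u => uSet.contains (ap r.1 u)) = true := by decide +kernel

theorem rows_cover : (span b0L).all (fun t => t == eI || transRows.any fun r => r.2.2.2.1 == t) = true := by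
  decide +kernel

theorem set_ok : ((span b0L).all (fun a => decide (a < 256) && (span b0L).all fun b => decide (mulT a b ∈ span b0L))
    && decide ((span b0L).Nodup) && uSet.all (fun a => decide (a < 4096) && decide (omega a ∈ uSet) &&
      !qn a && uSet.all fun b => decide (a ^^^ b ∈ uSet)) && decide (0 ∈ uSet) && decide (b0L.length = 4)
    && b0L.all (fun t => decide (t < 256) && decide (t ≠ eI))
    && (span b0L).all (fun t => t == eI || decide (1 < 2)) ) = true := by decide +kernel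

variable {W : Type*} [Group W] [Finite W] {V : Type*} [AddCommGroup V] [Finite V]
  [DistribMulAction W V] {D : Core W V} (S : Setting D)

/-- a map induced by an element -/
def Img (f : Nat → Nat) : Prop := ∃ g : W, ∀ k < 4096, S.ac g k = f k

theorem img_of_basis (key : Nat) (g : W) (h : ∀ i < 12, img key i = S.ac g (2 ^ i)) :
    ∀ k < 4096, S.ac g k = ap key k :=
  fun _ hk => (ap_eq_of_basis key (fun a _ b _ => S.ac_xor g a b) h hk).symm

theorem mv_swap (π : Equiv.Perm (Fin 6)) (σ : Ph) (k : Nat) :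
    mv π σ k = mv (π * Equiv.swap 0 1) (fun i => σ (Equiv.swap 0 1 i)) (p01 k) := by
  rw [p01, mv, mv, mv, dec_enc]
  congr 1
  funext j
  simp only [move, Option.map_map, Equiv.Perm.mul_def, Equiv.symm_trans_apply, Equiv.symm_swap,
    Equiv.swap_apply_self, Pi.zero_apply]
  congr 1
  funext x
  simp

theorem base_img : ∀ j < 6, Img S (ap (base.getD j 0)) := by
  have hb := List.all_eq_true.1 base_ok
  simp only [Bool.and_eq_true, beq_iff_eq, List.mem_range] at hb
  have lin : ∀ (π : Equiv.Perm (Fin 6)) (σ : Ph), Equiv.Perm.sign π = 1 → ∑ i, σ i = 0 →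
      ∀ key, (∀ i < 12, img key i = mv π σ (2 ^ i)) → Img S (ap key) := fun π σ h1 h2 key h => by
    obtain ⟨m, hm, e⟩ := S.exists_mv π h1 σ h2
    exact ⟨m, img_of_basis S key m fun i hi => by rw [h i hi, e]⟩
  have hA := lin _ 0 (by decide) (by simp) _ fun i hi => (hb i hi).1.1.1.1.1.1.1
  have hB := lin (Equiv.swap 0 1 * Equiv.swap 1 2) 0 (by decide) (by simp) _ fun i hi => (hb i hi).1.1.1.1.1.1.2
  have hC := lin (Equiv.swap 3 4 * Equiv.swap 4 5) 0 (by decide) (by simp) _ fun i hi => (hb i hi).1.1.1.1.1.2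
  have hd := lin 1 ![1, 2, 0, 0, 0, 0] (map_one _) (by decide) _ fun i hi => (hb i hi).1.1.1.1.2
  have hF : Img S (ap (base.getD 5 0)) := by
    refine ⟨S.outer, img_of_basis S _ _ fun i hi => ?_⟩
    rw [(hb i hi).1.1.1.2]
    refine S.E_inj (enc_lt _) (S.ac_lt _ _) ?_
    rw [mvC, S.E_enc, S.E_ac, Setting.E, S.outer_vec]
  have hq := List.all_eq_true.1 w_q_ok
  simp only [Bool.and_eq_true, beq_iff_eq, List.mem_range, Bool.or_eq_true, Bool.not_eq_true'] at hq
  set w := ap (base.getD 4 0) with hwdef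
  have hw4 : ∀ k < 4096, w (w (w (w k))) = k := fun k hk =>
    eq_of_basis (wf [4, 4, 4, 4]) (fun x => x) (fun a _ b _ => wf_xor _ a b) (fun _ _ _ _ => rfl)
      (fun i hi => (hb i hi).1.2) hk
  have hwAut : Aut w :=
    { lt := fun k _ => ap_lt _ _
      add := fun a _ b _ => ap_xor _ a b
      om := fun k hk => eq_of_basis (fun x => w (omega x)) (fun x => omega (w x))
        (fun a _ b _ => by simp only [hwdef, omega_xor, ap_xor])
        (fun a _ b _ => by simp only [hwdef, omega_xor, ap_xor]) (fun i hi => ((hb i hi).1.1.2).symm) hk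
      qn := fun k hk => (hq k hk).1
      inU := fun k hk h => (hq k hk).2.resolve_left (by simp [h])
      inj := fun a ha b hb' h => by rw [← hw4 a ha, ← hw4 b hb', h] }
  obtain ⟨m, hm, hcase⟩ := S.cases hwAut
  have hw : Img S w := by
    rcases hcase with h | h
    · exact ⟨m, fun k hk => (h k hk).symm⟩
    exfalso
    -- then `x = w p01` is induced, and so is an odd monomial map
    have hx : ∀ k < 4096, S.ac m k = xw k := fun k hk => by
      show S.ac m k = w (p01 k)
      rw [h (p01 k) (aut_p01.lt k hk), (p01_facts hk).2.2.2]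
    obtain ⟨a0, hA'⟩ := hA
    obtain ⟨a2, hC'⟩ := hC
    obtain ⟨p0, hp0, e0⟩ := S.exists_mv (Equiv.swap 0 1 * Equiv.swap 1 2 * Equiv.swap 2 3 * Equiv.swap 3 4)
      (by decide) 0 (by simp)
    obtain ⟨p2, hp2, e2⟩ := S.exists_mv (Equiv.swap 3 4 * Equiv.swap 4 5) (by decide) 0 (by simp)
    have hA0 : ∀ k < 4096, S.ac p0 k = ap (base.getD 0 0) k :=
      img_of_basis S _ _ fun i hi => by rw [e0]; exact (hb i hi).1.1.1.1.1.1.1
    have hC0 : ∀ k < 4096, S.ac p2 k = ap (base.getD 2 0) k :=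
      img_of_basis S _ _ fun i hi => by rw [e2]; exact (hb i hi).1.1.1.1.1.2
    set π := Equiv.swap (0 : Fin 6) 5 * Equiv.swap 5 1 * Equiv.swap 3 4 with hπ
    set σ : Ph := ![1, 2, 0, 1, 2, 0] with hσ
    let M := m * (p0 * (m * (p0 * (m * (p2 * (p0 * (m * (p0 * (p0 * m)))))))))
    have hM : M ∈ D.Mb := by
      simp only [M]
      repeat (first | exact hm | exact hp0 | exact hp2 | apply D.Mb.mul_mem)
    have hrel : ∀ k < 4096, S.ac M k = mv π σ k := by
      have e : ∀ k < 4096, S.ac M k = relMap k := fun k hk => by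
        simp only [M, Setting.ac_mul, relMap, hx k hk]
        simp only [hA0 _ (enc_lt _), hA0 _ (ap_lt _ _), hC0 _ (ap_lt _ _), hx _ (ap_lt _ _), xw]
      intro k hk
      exact eq_of_basis (S.ac M) (mv π σ) (fun a _ b _ => S.ac_xor M a b) (fun a _ b _ => mv_xor _ _ a b)
        (fun i hi => by
          rw [e _ (lt_of_lt_of_le (Nat.pow_lt_pow_right (by norm_num) hi) (by norm_num))]
          exact (hb i hi).2) hk
    obtain ⟨p, hp, e⟩ := S.exists_mv (π * Equiv.swap 0 1) (by rw [hπ]; decide)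
      (fun i => σ (Equiv.swap 0 1 i)) (by rw [hσ]; decide)
    refine S.p01_not (D.Mb.mul_mem (D.Mb.inv_mem hp) hM) fun k hk => ?_
    rw [Setting.ac_mul, hrel k hk, mv_swap π σ k, ← e, ← Setting.ac_mul, inv_mul_cancel,
      S.ac_one (aut_p01.lt k hk)]
  intro j hj
  interval_cases j
  exacts [hA, hB, hC, hd, hw, hF]

theorem wf_img (l : List Nat) (hl : ∀ t ∈ l, t < 6) : Img S (wf l) := by
  induction l with
  | nil => exact ⟨1, fun k hk => S.ac_one hk⟩
  | cons j l ih =>
    obtain ⟨g, hg⟩ := ih fun t ht => hl t (List.mem_cons_of_mem _ ht)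
    obtain ⟨b, hb⟩ := base_img S j (hl j (List.mem_cons_self ..))
    exact ⟨b * g, fun k hk => by rw [S.ac_mul, hg k hk, hb _ (wf_lt l hk)]; rfl⟩

theorem gen_img (j : Nat) (hj : j < 8) : Img S (ap (gens.getD j 0)) := by
  have h := List.all_eq_true.1 (List.all_eq_true.1 words_ok j (List.mem_range.2 hj))
  simp only [Bool.and_eq_true, beq_iff_eq, List.mem_range, List.all_eq_true, decide_eq_true_eq] at h
  obtain ⟨g, hg⟩ := wf_img S (genWords.getD j []) (h 0 (by norm_num)).2
  exact ⟨g, img_of_basis S _ _ fun i hi => by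
    rw [(h i hi).1, hg _ (lt_of_lt_of_le (Nat.pow_lt_pow_right (by norm_num) hi) (by norm_num))]⟩

theorem key_img (a : Nat) (ha : a < 256) : Img S (ap (key a)) := by
  have h := List.all_eq_true.1 word_ok a (List.mem_range.2 ha)
  rw [Bool.and_eq_true, beq_iff_eq, List.all_eq_true] at h
  have hd : ∀ d ∈ digits a, d ≤ 8 := fun d hd => of_decide_eq_true (h.2 d hd)
  rw [← h.1, show mulT eI a = (digits a).foldl stp eI from rfl]
  generalize digits a = l at hd
  have h0 : Img S (ap (key eI)) := ⟨1, fun k hk => by rw [S.ac_one hk, eI_sem hk]⟩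
  have key' : ∀ (l : List Nat), (∀ d ∈ l, d ≤ 8) → ∀ b < 256, Img S (ap (key b)) →
      Img S (ap (key (l.foldl stp b))) := by
    intro l hl
    induction l with
    | nil => intro b _ hb; exact hb
    | cons d l ih =>
      intro b hb himg
      refine ih (fun e he => hl e (List.mem_cons_of_mem _ he)) _ (stp_lt hb d) ?_
      by_cases h0 : d = 0
      · simpa [stp, h0] using himg
      · have hd8 := hl d (List.mem_cons_self ..)
        obtain ⟨g, hg⟩ := himg
        obtain ⟨u, hu⟩ := gen_img S (d - 1) (by omega)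
        refine ⟨g * u, fun k hk => ?_⟩
        rw [show stp b d = tab b (d - 1) from if_neg h0, tab_sem hb (by omega) hk, S.ac_mul, hu k hk,
          hg _ (ap_lt _ _)]
  exact key' l hd eI eI_lt h0

/-- the group of the 256 maps -/
def T256 : Subgroup W where
  carrier := {g | ∃ a < 256, ∀ k < 4096, S.ac g k = ap (key a) k}
  one_mem' := ⟨eI, eI_lt, fun k hk => by rw [S.ac_one hk, eI_sem hk]⟩
  mul_mem' := by
    rintro g g' ⟨a, ha, e⟩ ⟨b, hb, e'⟩
    exact ⟨mulT a b, mulT_lt ha b, fun k hk => by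
      rw [S.ac_mul, e' k hk, e _ (ap_lt _ _), mulT_sem ha hb hk]⟩
  inv_mem' := by
    intro g hg
    have hpow : ∀ n : ℕ, ∃ a < 256, ∀ k < 4096, S.ac (g ^ n) k = ap (key a) k := by
      intro n
      induction n with
      | zero => exact ⟨eI, eI_lt, fun k hk => by rw [pow_zero, S.ac_one hk, eI_sem hk]⟩
      | succ n ih =>
        obtain ⟨a, ha, e⟩ := ih
        obtain ⟨b, hb, e'⟩ := hg
        exact ⟨mulT a b, mulT_lt ha b, fun k hk => by
          rw [pow_succ, S.ac_mul, e' k hk, e _ (ap_lt _ _), mulT_sem ha hb hk]⟩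
    have e : g⁻¹ = g ^ (orderOf g - 1) := by
      refine inv_eq_of_mul_eq_one_right ?_
      rw [← pow_succ', Nat.sub_add_cancel (orderOf_pos g), pow_orderOf_eq_one]
    show ∃ a < 256, ∀ k < 4096, S.ac g⁻¹ k = ap (key a) k
    rw [e]; exact hpow _

theorem card_T256 : Nat.card (T256 S) = 256 := by
  choose g hg using fun a : Fin 256 => key_img S a.1 a.2
  refine ((Nat.card_congr (Equiv.ofBijective (fun a : Fin 256 => (⟨g a, a.1, a.2, hg a⟩ : T256 S)) ⟨?_, ?_⟩)).symm).trans (by simp)
  · intro a b e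
    have e' : g a = g b := congrArg Subtype.val e
    exact Fin.ext (key_inj a.2 b.2 fun k hk => by rw [← hg a k hk, e', hg b k hk])
  · rintro ⟨x, a, ha, e⟩
    exact ⟨⟨a, ha⟩, Subtype.ext (S.eq_of_ac fun k hk => by rw [hg ⟨a, ha⟩ k hk, e k hk])⟩

theorem span_facts (a : Nat) (ha : a ∈ span b0L) : a < 256 ∧ ∀ b ∈ span b0L, mulT a b ∈ span b0L := by
  have h := set_ok
  simp only [Bool.and_eq_true, List.all_eq_true, decide_eq_true_eq] at h
  exact h.1.1.1.1.1.1 a ha

theorem span_lt (l : List Nat) (hl : ∀ s ∈ l, s < 256) : ∀ c ∈ span l, c < 256 := by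
  induction l with
  | nil => intro c hc; rw [List.mem_singleton.1 hc]; exact eI_lt
  | cons s l ih =>
    intro c hc
    rcases List.mem_append.1 hc with hc | hc
    · exact ih (fun x hx => hl x (List.mem_cons_of_mem _ hx)) c hc
    · obtain ⟨d, -, rfl⟩ := List.mem_map.1 hc
      exact mulT_lt (hl s (List.mem_cons_self ..)) d

/-- the elementary abelian subgroup of order 16 -/
def B16 : Subgroup W where
  carrier := {g | ∃ a ∈ span b0L, ∀ k < 4096, S.ac g k = ap (key a) k}
  one_mem' := ⟨eI, eI_mem_span _, fun k hk => by rw [S.ac_one hk, eI_sem hk]⟩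
  mul_mem' := by
    rintro g g' ⟨a, ha, e⟩ ⟨b, hb, e'⟩
    obtain ⟨h1, h2⟩ := span_facts a ha
    refine ⟨mulT a b, h2 b hb, fun k hk => ?_⟩
    rw [S.ac_mul, e' k hk, e _ (ap_lt _ _), mulT_sem h1 (span_facts b hb).1 hk]
  inv_mem' := by
    rintro g ⟨a, ha, e⟩
    refine ⟨a, ha, fun k hk => ?_⟩
    obtain ⟨h1, h2⟩ := span_facts a ha
    have hsq : mulT a a = eI := by
      have hh : (span b0L).all (fun t => mulT t t == eI) = true := by decide +kernel
      exact beq_iff_eq.1 (List.all_eq_true.1 hh a ha)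
    have : g * g = 1 := S.eq_of_ac fun k hk => by
      rw [S.ac_mul, e k hk, e _ (ap_lt _ _), ← mulT_sem h1 h1 hk, hsq, eI_sem hk, S.ac_one hk]
    rw [inv_eq_of_mul_eq_one_right this, e k hk]

theorem card_B16 : Nat.card (B16 S) = 16 := by
  have hnd : (span b0L).Nodup ∧ (span b0L).length = 16 ∧ ∀ a ∈ span b0L, a < 256 := by
    refine ⟨by decide +kernel, by decide +kernel, by decide +kernel⟩
  choose g hg using fun a : (span b0L).toFinset => key_img S a.1 (hnd.2.2 a.1 (List.mem_toFinset.1 a.2))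
  refine ((Nat.card_congr (Equiv.ofBijective (fun a => (⟨g a, a.1, List.mem_toFinset.1 a.2, hg a⟩ : B16 S)) ⟨?_, ?_⟩)).symm).trans ?_
  · intro a b e
    have e' : g a = g b := congrArg Subtype.val e
    exact Subtype.ext (key_inj (hnd.2.2 _ (List.mem_toFinset.1 a.2)) (hnd.2.2 _ (List.mem_toFinset.1 b.2))
      fun k hk => by rw [← hg a k hk, e', hg b k hk])
  · rintro ⟨x, a, ha, e⟩
    exact ⟨⟨a, List.mem_toFinset.2 ha⟩, Subtype.ext (S.eq_of_ac fun k hk => by
      rw [hg ⟨a, List.mem_toFinset.2 ha⟩ k hk, e k hk])⟩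
  · rw [Nat.card_eq_finsetCard, List.toFinset_card_of_nodup hnd.1, hnd.2.1]

theorem B16_le : B16 S ≤ T256 S := fun _ ⟨a, ha, e⟩ => ⟨a, (span_facts a ha).1, e⟩

/-- the vectors of `uSet` -/
def InUSet (x : V) : Prop := ∃ a ∈ uSet, S.E a = x

theorem uSet_fixed {g : W} (hg : g ∈ B16 S) {x : V} (hx : InUSet S x) : g • x = x := by
  obtain ⟨a, ha, e⟩ := hg
  obtain ⟨u, hu, rfl⟩ := hx
  have hh : (span b0L).all (fun t => uSet.all fun u => ap (key t) u == u) = true := by decide +kernel
  have hu4 : u < 4096 := by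
    have h := set_ok
    simp only [Bool.and_eq_true, List.all_eq_true, decide_eq_true_eq] at h
    exact (h.1.1.1.1.2 u hu).1.1.1
  rw [← S.E_ac, e u hu4, beq_iff_eq.1 (List.all_eq_true.1 (List.all_eq_true.1 hh a ha) u hu)]

/-- the normalising elements: the fifteen classes are permuted transitively -/
theorem exists_conj {x y : W} (hx : x ∈ B16 S) (hy : y ∈ B16 S) (hx1 : x ≠ 1) (hy1 : y ≠ 1) :
    ∃ g : W, g * x * g⁻¹ = y ∧ (∀ b ∈ B16 S, g * b * g⁻¹ ∈ B16 S) ∧ ∀ v, InUSet S v → InUSet S (g • v) := by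
  classical
  have hs := set_ok
  simp only [Bool.and_eq_true, List.all_eq_true, decide_eq_true_eq] at hs
  have hb0 : ∀ j < 4, b0L.getD j 0 < 256 ∧ b0L.getD j 0 ∈ span b0L := by decide +kernel
  obtain ⟨b1, hb1⟩ := key_img S _ (hb0 0 (by norm_num)).1
  have main : ∀ y ∈ B16 S, y ≠ 1 → ∃ g : W, g * b1 * g⁻¹ = y ∧ (∀ b ∈ B16 S, g * b * g⁻¹ ∈ B16 S) ∧
      ∀ v, InUSet S v → InUSet S (g • v) := by
    rintro y ⟨t, ht, et⟩ hy1
    have hte : (t == eI) = false := beq_eq_false_iff_ne.2 fun e => hy1 (S.eq_of_ac fun k hk => by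
      rw [et k hk, e, eI_sem hk, S.ac_one hk])
    have hc := List.all_eq_true.1 rows_cover t ht
    rw [hte, Bool.false_or] at hc
    obtain ⟨r, hr, hrt⟩ := List.any_eq_true.1 hc
    have hro := List.all_eq_true.1 rows_ok r hr
    simp only [Bool.and_eq_true, List.all_eq_true, decide_eq_true_eq, List.mem_range, beq_iff_eq] at hro
    obtain ⟨⟨⟨⟨h1, h2⟩, h3⟩, h4⟩, h5⟩ := hro
    rw [beq_iff_eq] at hrt
    obtain ⟨g, hg⟩ := wf_img S r.2.1 h2
    have hgk : ∀ k < 4096, S.ac g k = ap r.1 k := img_of_basis S _ _ fun i hi => by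
      rw [h1 i hi, hg _ (lt_of_lt_of_le (Nat.pow_lt_pow_right (by norm_num) hi) (by norm_num))]
    have conjeq : ∀ (u v : W) (a b : Nat), a < 256 → b < 256 → (∀ k < 4096, S.ac u k = ap (key a) k) →
        (∀ k < 4096, S.ac v k = ap (key b) k) → (∀ i < 12, ap r.1 (img (key a) i) = ap (key b) (img r.1 i)) →
        g * u * g⁻¹ = v := by
      intro u v a b _ _ hu hv hi
      rw [mul_inv_eq_iff_eq_mul]
      refine S.eq_of_ac fun k hk => ?_
      rw [S.ac_mul, S.ac_mul, hu k hk, hgk _ (ap_lt _ _), hgk k hk, hv _ (ap_lt _ _)]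
      exact eq_of_basis (fun x => ap r.1 (ap (key a) x)) (fun x => ap (key b) (ap r.1 x))
        (fun a _ b _ => by simp only [ap_xor]) (fun a _ b _ => by simp only [ap_xor])
        (fun i hi' => by simp only [ap_two_pow _ i hi']; exact hi i hi') hk
    refine ⟨g, conjeq b1 y _ t (hb0 0 (by norm_num)).1 (hs.1.1.1.1.1.1 t ht).1 hb1 et (hrt ▸ h3), ?_, ?_⟩
    · choose u hu using fun j : Fin 4 => key_img S _ (hb0 j.1 j.2).1
      have hgen : ∀ j : Fin 4, g * u j * g⁻¹ ∈ B16 S := fun j => by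
        obtain ⟨c1, c2⟩ := h4 j.1 j.2
        obtain ⟨v, hv⟩ := key_img S _ (hs.1.1.1.1.1.1 _ c1).1
        rw [conjeq (u j) v _ _ (hb0 j.1 j.2).1 (hs.1.1.1.1.1.1 _ c1).1 (hu j) hv c2]
        exact ⟨_, c1, hv⟩
      rintro b ⟨a, ha, ea⟩
      have key' : ∀ l : List Nat, (∀ s ∈ l, ∃ j : Fin 4, s = b0L.getD j.1 0) → ∀ a ∈ span l,
          ∀ b : W, (∀ k < 4096, S.ac b k = ap (key a) k) → g * b * g⁻¹ ∈ B16 S := by
        intro l hl
        induction l with
        | nil =>
          intro a ha b hb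
          rw [List.mem_singleton.1 ha] at hb
          rw [show b = 1 from S.eq_of_ac fun k hk => by rw [hb k hk, eI_sem hk, S.ac_one hk], mul_one,
            mul_inv_cancel]
          exact one_mem _
        | cons i l ih =>
          intro a ha b hb
          rcases List.mem_append.1 ha with ha | ha
          · exact ih (fun s hs => hl s (List.mem_cons_of_mem _ hs)) a ha b hb
          · obtain ⟨c, hc, rfl⟩ := List.mem_map.1 ha
            obtain ⟨j, rfl⟩ := hl i (List.mem_cons_self ..)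
            have hl4 : ∀ s ∈ l, s < 256 := fun s hs' => by
              obtain ⟨j', rfl⟩ := hl s (List.mem_cons_of_mem _ hs')
              exact (hb0 j'.1 j'.2).1
            have hc256 : c < 256 := span_lt l hl4 c hc
            obtain ⟨v, hv⟩ := key_img S c hc256
            have : b = u j * v := S.eq_of_ac fun k hk => by
              rw [hb k hk, S.ac_mul, hv k hk, hu j _ (ap_lt _ _), mulT_sem (hb0 j.1 j.2).1 hc256 hk]
            rw [this, show g * (u j * v) * g⁻¹ = g * u j * g⁻¹ * (g * v * g⁻¹) by group]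
            exact mul_mem (hgen j) (ih (fun s hs => hl s (List.mem_cons_of_mem _ hs)) c hc v hv)
      refine key' b0L ?_ a ha b ea
      have : ∀ s ∈ b0L, ∃ j : Fin 4, s = b0L.getD j.1 0 := by decide +kernel
      exact this
    · rintro v ⟨a, ha, rfl⟩
      have hu4 : ∀ a ∈ uSet, a < 4096 := fun a ha => (hs.1.1.1.1.2 a ha).1.1.1
      refine ⟨ap r.1 a, ?_, by rw [← hgk a (hu4 a ha), S.E_ac]⟩
      have hx : ∀ p ∈ uSet, ∀ q ∈ uSet, p ^^^ q ∈ uSet := fun p hp => (hs.1.1.1.1.2 p hp).2
      have gen : ∀ l : List Nat, (∀ u ∈ l, ap r.1 u ∈ uSet) →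
          ∀ w ∈ l.foldr (fun b acc => acc ++ acc.map (fun x => x ^^^ b)) [0], ap r.1 w ∈ uSet := by
        intro l hl
        induction l with
        | nil =>
          intro w hw
          rw [List.mem_singleton.1 hw]
          have := ap_xor r.1 0 0
          simp only [Nat.xor_self] at this
          rw [this]; exact hs.1.1.1.2
        | cons b l ih =>
          intro w hw
          rcases List.mem_append.1 hw with hw | hw
          · exact ih (fun u hu => hl u (List.mem_cons_of_mem _ hu)) w hw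
          · obtain ⟨x, hx', rfl⟩ := List.mem_map.1 hw
            rw [ap_xor]
            exact hx _ (ih (fun u hu => hl u (List.mem_cons_of_mem _ hu)) x hx') _ (hl b (List.mem_cons_self ..))
      exact gen uBasis (fun u hu => List.contains_iff_mem.1 (h5 u hu)) a ha
  obtain ⟨g, hg1, hg2, hg3⟩ := main x hx hx1
  obtain ⟨g', hg1', hg2', hg3'⟩ := main y hy hy1
  -- the inverse of `g` also preserves both sets
  have hginv : ∀ b ∈ B16 S, g⁻¹ * b * g ∈ B16 S := fun b hb => by
    let f : B16 S → B16 S := fun c => ⟨g * c.1 * g⁻¹, hg2 c.1 c.2⟩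
    have hf : Function.Injective f := fun c d e => Subtype.ext (by simpa [f] using congrArg Subtype.val e)
    obtain ⟨c, hc⟩ := Finite.injective_iff_surjective.1 hf ⟨b, hb⟩
    have hc' : g * c.1 * g⁻¹ = b := congrArg Subtype.val hc
    rw [← hc', show g⁻¹ * (g * c.1 * g⁻¹) * g = c.1 by group]
    exact c.2
  have hvinv : ∀ v, InUSet S v → InUSet S (g⁻¹ • v) := fun v hv => by
    let f : {v // InUSet S v} → {v // InUSet S v} := fun c => ⟨g • c.1, hg3 c.1 c.2⟩
    have hf : Function.Injective f := fun c d e =>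
      Subtype.ext (smul_left_cancel g (congrArg Subtype.val e))
    obtain ⟨c, hc⟩ := Finite.injective_iff_surjective.1 hf ⟨v, hv⟩
    have hc' : g • c.1 = v := congrArg Subtype.val hc
    rw [← hc', inv_smul_smul]
    exact c.2
  refine ⟨g' * g⁻¹, ?_, fun b hb => ?_, fun v hv => ?_⟩
  · rw [← hg1, show g' * g⁻¹ * (g * b1 * g⁻¹) * (g' * g⁻¹)⁻¹ = g' * b1 * g'⁻¹ by group, hg1']
  · rw [show g' * g⁻¹ * b * (g' * g⁻¹)⁻¹ = g' * (g⁻¹ * b * g) * g'⁻¹ by group]
    exact hg2' _ (hginv b hb)
  · rw [mul_smul]; exact hg3' _ (hvinv v hv)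

end Cfsg.Agent.Lib.FischerLarge45.Lifts
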