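import Cfsg.Agent.Lib.FischerLarge45.Lift
import Mathlib.GroupTheory.Sylow

/-!
From `Data` and the bound on elementary abelian sections to: every Sylow 2-subgroup has exactly one
elementary abelian subgroup of largest order, of order `2^11`, meeting `Q` in `2^7`.
-/

set_option autoImplicit false

namespace Cfsg.Agent.Lib.FischerLarge45

open Cfsg.Agent.Lib.LargeExtraspecial.Basic

variable {H : Type*} [Group H] [Finite H] {Q : Subgroup H} {z : H} {U B : Subgroup H} {x : H}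

/-- What is to be checked in the quotient: the only large pair (image, fixed subgroup) is `(B, U)`. -/
def Small (Q : Subgroup H) (z : H) (U B T : Subgroup H) : Prop :=
  ∀ B' U' : Subgroup H, Q ≤ B' → B' ≤ T → (∀ b ∈ B', b * b ∈ Q) → U' ≤ Q → z ∈ U' →
    (∀ u ∈ U', u * u = 1) → (∀ b ∈ B', ∀ u ∈ U', b * u * b⁻¹ = u ∨ b * u * b⁻¹ = u * z) →
    Nat.card U' ≤ 2 ^ 7 → 2 ^ 24 ≤ Nat.card B' * Nat.card U' → B' = B ∧ U' = U

/-- A subgroup is the only largest elementary abelian subgroup of `T`. -/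
def IsOnlyMax (A T : Subgroup H) : Prop :=
  A ≤ T ∧ (∀ a ∈ A, a * a = 1) ∧ ∀ C : Subgroup H, C ≤ T → (∀ c ∈ C, c * c = 1) →
    Nat.card A ≤ Nat.card C → C = A

theorem card_mul_card (Q A : Subgroup H) [Q.Normal] :
    Nat.card ↥(A ⊔ Q) * Nat.card ↥(A ⊓ Q) = Nat.card A * Nat.card Q := by
  have e1 := Subgroup.card_eq_card_quotient_mul_card_subgroup ((A ⊓ Q).subgroupOf A)
  have e2 := Subgroup.card_eq_card_quotient_mul_card_subgroup (Q.subgroupOf (A ⊔ Q))
  have e3 := Nat.card_congr (QuotientGroup.quotientInfEquivProdNormalQuotient A Q).toEquiv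
  rw [show (A ⊓ Q).subgroupOf A = Q.subgroupOf A from (show (A ⊓ Q).subgroupOf A = Q.subgroupOf A by rw [inf_comm, Subgroup.inf_subgroupOf_right])] at e1
  rw [Nat.card_congr (Subgroup.subgroupOfEquivOfLe (le_sup_right : Q ≤ A ⊔ Q)).toEquiv] at e2
  have e4 : Nat.card ↥(Q.subgroupOf A) = Nat.card ↥(A ⊓ Q) := by
    rw [← (show (A ⊓ Q).subgroupOf A = Q.subgroupOf A by rw [inf_comm, Subgroup.inf_subgroupOf_right])]
    exact Nat.card_congr (Subgroup.subgroupOfEquivOfLe inf_le_left).toEquiv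
  rw [e4] at e1
  rw [e1, e2, e3]
  ring

theorem Data.unique (d : Data Q z U B x) (T : Subgroup H) (hBT : B ≤ T) (hs : Small Q z U B T) :
    IsOnlyMax (Wof U B) T ∧ Wof U B ⊓ Q = U := by
  refine ⟨⟨inf_le_left.trans hBT, d.W_elem, fun C hCT hC2 hcard => ?_⟩,
    le_antisymm (fun w hw => d.W_inf_Q hw.1 hw.2) (le_inf d.U_le_W d.hUQ)⟩
  rw [d.card_W] at hcard
  haveI := d.normal
  have hZ : ∀ a : H, Commute a z := d.central
  let C' := C ⊔ Subgroup.zpowers z
  have hzT : Subgroup.zpowers z ≤ T :=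
    Subgroup.zpowers_le.2 (hBT (d.hQB (d.hUQ d.hzU)))
  have hC'T : C' ≤ T := sup_le hCT hzT
  have hC'2 : ∀ c ∈ C', c * c = 1 := by
    let K : Subgroup H := Subgroup.closure ((C : Set H) ∪ {z})
    have hK : C' ≤ K := sup_le (fun c hc => Subgroup.subset_closure (Or.inl hc))
      (Subgroup.zpowers_le.2 (Subgroup.subset_closure (Or.inr rfl)))
    intro c hc
    have hcomm : ∀ a ∈ (C : Set H) ∪ {z}, ∀ b ∈ (C : Set H) ∪ {z}, a * b = b * a := by
      rintro a (ha | rfl) b (hb | rfl)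
      · exact (commute_of_sq hC2 ha hb).eq
      · exact (hZ a).eq
      · exact (hZ b).eq.symm
      · rfl
    letI := Subgroup.isMulCommutative_closure hcomm
    refine Subgroup.closure_induction (p := fun t _ => t * t = 1) ?_ (one_mul 1) ?_ ?_ (hK hc)
    · rintro t (ht | rfl)
      · exact hC2 t ht
      · exact d.es.sq
    · intro a b ha hb e1 e2
      have hab : a * b = b * a := setLike_mul_comm ha hb
      rw [mul_assoc, ← mul_assoc b a b, ← hab, mul_assoc, e2, mul_one, e1]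
    · intro a _ e1
      rw [← mul_inv_rev, e1, inv_one]
  have hle : C ≤ C' := le_sup_left
  have hU'2 : ∀ u ∈ C' ⊓ Q, u * u = 1 := fun u hu => hC'2 u hu.1
  have hzU' : z ∈ C' ⊓ Q := ⟨Subgroup.mem_sup_right (Subgroup.mem_zpowers z), d.hUQ d.hzU⟩
  have h7 := card_le_of_abelian d.es d.cardQ (C' ⊓ Q) inf_le_right hzU' hU'2
  have hm := card_mul_card Q C'
  rw [d.cardQ] at hm
  have hc' : 2 ^ 11 ≤ Nat.card C' := hcard.trans (Subgroup.card_le_of_le hle)
  have h24 : 2 ^ 24 ≤ Nat.card ↥(C' ⊔ Q) * Nat.card ↥(C' ⊓ Q) := by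
    rw [hm, show (2 : ℕ) ^ 24 = 2 ^ 11 * 2 ^ 13 by norm_num]
    exact Nat.mul_le_mul hc' le_rfl
  have hsq : ∀ b ∈ C' ⊔ Q, b * b ∈ Q := by
    intro b hb
    rw [← SetLike.mem_coe, Subgroup.mul_normal] at hb
    obtain ⟨c, hc, q, hq, rfl⟩ := hb
    have h1 : c⁻¹ * q * c ∈ Q := by simpa using d.normal.conj_mem q hq c⁻¹
    have e : c * q * (c * q) = c * c * (c⁻¹ * q * c * q) := by group
    show c * q * (c * q) ∈ Q
    rw [e, hC'2 c hc, one_mul]
    exact Q.mul_mem h1 hq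
  have hst : ∀ b ∈ C' ⊔ Q, ∀ u ∈ C' ⊓ Q, b * u * b⁻¹ = u ∨ b * u * b⁻¹ = u * z := by
    intro b hb u hu
    rw [← SetLike.mem_coe, Subgroup.mul_normal] at hb
    obtain ⟨c, hc, q, hq, rfl⟩ := hb
    have hcu := (commute_of_sq hC'2 hc hu.1).eq
    have e : c * q * u * (c * q)⁻¹ = c * (q * u * q⁻¹) * c⁻¹ := by group
    have e0 : c * u * c⁻¹ = u := by rw [hcu, mul_inv_cancel_right]
    show c * q * u * (c * q)⁻¹ = u ∨ c * q * u * (c * q)⁻¹ = u * z
    rw [e]
    rcases d.es.conj q hq u hu.2 with e1 | e1 <;> rw [e1]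
    · exact Or.inl e0
    · exact Or.inr (by rw [← mul_assoc, mul_assoc (c * u), ← (hZ c⁻¹).eq, ← mul_assoc, e0])
  obtain ⟨hB', hU'⟩ := hs (C' ⊔ Q) (C' ⊓ Q) le_sup_right
    (sup_le hC'T (d.hQB.trans hBT)) hsq inf_le_right hzU' hU'2 hst h7 h24
  have hCW : C ≤ Wof U B := by
    intro c hc
    refine d.mem_W.2 ⟨hB' ▸ Subgroup.mem_sup_left (hle hc), fun u hu => ?_⟩
    exact commute_of_sq hC'2 ((hU'.symm ▸ hu : u ∈ C' ⊓ Q).1) (hle hc)
  exact Subgroup.eq_of_le_of_card_ge hCW (d.card_W.trans_le hcard)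

theorem exists_conj {A T₀ : Subgroup H} [hQ : Q.Normal] (h : IsOnlyMax A T₀) (g : H) :
    IsOnlyMax (A.map (MulAut.conj g).toMonoidHom) (T₀.map (MulAut.conj g).toMonoidHom) ∧
      Nat.card ↥(A.map (MulAut.conj g).toMonoidHom ⊓ Q) = Nat.card ↥(A ⊓ Q) := by
  have hinj : Function.Injective (MulAut.conj g).toMonoidHom := (MulAut.conj g).injective
  refine ⟨⟨Subgroup.map_mono h.1, ?_, fun C hCT hC2 hcard => ?_⟩, ?_⟩
  · rintro _ ⟨a, ha, rfl⟩
    rw [← map_mul, h.2.1 a ha, map_one]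
  · have e : (C.comap (MulAut.conj g).toMonoidHom).map (MulAut.conj g).toMonoidHom = C :=
      Subgroup.map_comap_eq_self_of_surjective (MulAut.conj g).surjective C
    have hC' := h.2.2 (C.comap (MulAut.conj g).toMonoidHom)
      ((Subgroup.comap_mono hCT).trans (Subgroup.comap_map_eq_self_of_injective hinj T₀).le)
      (fun c hc => hinj (by rw [map_mul, map_one]; exact hC2 _ hc))
      (by rw [← Subgroup.card_map_of_injective hinj, ← Subgroup.card_map_of_injective (K := C.comap _) hinj,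
            e]; exact hcard)
    rw [← e, hC']
  · have hQg : Q.map (MulAut.conj g).toMonoidHom = Q := by
      ext t
      refine ⟨?_, fun ht => ⟨g⁻¹ * t * g, by simpa using hQ.conj_mem t ht g⁻¹, by simp [mul_assoc]⟩⟩
      rintro ⟨q, hq, rfl⟩
      exact hQ.conj_mem q hq g
    conv_lhs => rw [← hQg, ← Subgroup.map_inf _ _ _ hinj]
    exact Subgroup.card_map_of_injective hinj

/-- every Sylow 2-subgroup has a unique largest elementary abelian subgroup -/
theorem Data.sylow (d : Data Q z U B x) (T₀ : Sylow 2 H) (hBT : B ≤ (T₀ : Subgroup H))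
    (hs : Small Q z U B (T₀ : Subgroup H)) (T : Sylow 2 H) :
    ∃ A : Subgroup H, IsOnlyMax A (T : Subgroup H) ∧ Nat.card A = 2 ^ 11 ∧
      Nat.card ↥(A ⊓ Q) = 2 ^ 7 := by
  haveI := d.normal
  obtain ⟨h1, h2⟩ := d.unique _ hBT hs
  obtain ⟨g, rfl⟩ := MulAction.exists_smul_eq H T₀ T
  obtain ⟨h3, h4⟩ := exists_conj (Q := Q) h1 g
  refine ⟨(Wof U B).map (MulAut.conj g).toMonoidHom, h3, ?_, ?_⟩
  · rw [Subgroup.card_map_of_injective (MulAut.conj g).injective, d.card_W]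
  · rw [h4, h2, d.cardU]

/-- The statement in terms of the subgroup `↥T`. -/
theorem result_of (Q : Subgroup H) [Q.Normal] (T : Sylow 2 H) {A : Subgroup H}
    (hA : IsOnlyMax A (T : Subgroup H)) (hc : Nat.card A = 2 ^ 11)
    (hi : Nat.card ↥(A ⊓ Q) = 2 ^ 7) :
    ∃ A' : Subgroup ↥(T : Subgroup H), Cfsg.maxElementaryAbelianSubgroups 2 ↥(T : Subgroup H) = {A'} ∧
      Nat.card A' = 2 ^ 11 ∧ Nat.card ↥(A'.map (T : Subgroup H).subtype ⊓ Q) = 2 ^ 7 ∧
      Nat.card ↥((A'.map (T : Subgroup H).subtype).map (QuotientGroup.mk' Q)) = 16 := by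
  obtain ⟨hAT, hA2, hmax⟩ := hA
  set S : Subgroup H := (T : Subgroup H)
  have hm : (A.subgroupOf S).map S.subtype = A := Subgroup.map_subgroupOf_eq_of_le hAT
  have hcA : Nat.card ↥(A.subgroupOf S) = 2 ^ 11 :=
    (Nat.card_congr (Subgroup.subgroupOfEquivOfLe hAT).toEquiv).trans hc
  have hel : Cfsg.IsElementaryAbelian 2 (A.subgroupOf S) :=
    ⟨⟨⟨fun a b => Subtype.ext (Subtype.ext (commute_of_sq hA2 a.2 b.2).eq)⟩⟩,
      fun a ha => Subtype.ext (by rw [pow_two]; exact hA2 _ ha)⟩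
  have sq_map : ∀ C : Subgroup ↥S, Cfsg.IsElementaryAbelian 2 C → ∀ c ∈ C.map S.subtype, c * c = 1 := by
    rintro C hC _ ⟨c, hc', rfl⟩
    rw [← map_mul, ← pow_two, hC.2 c hc', map_one]
  have hcm : ∀ C : Subgroup ↥S, Nat.card ↥(C.map S.subtype) = Nat.card C := fun C =>
    Subgroup.card_map_of_injective S.subtype_injective
  refine ⟨A.subgroupOf S, ?_, hcA, by rw [hm, hi], ?_⟩
  · refine Set.eq_singleton_iff_unique_mem.2 ⟨⟨hel, fun C hC => ?_⟩, fun C hC => ?_⟩
    · by_contra hlt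
      push Not at hlt
      have e := hmax (C.map S.subtype) (Subgroup.map_subtype_le C) (sq_map C hC)
        (by rw [hc, hcm, ← hcA]; exact hlt.le)
      rw [hcA, ← hcm C, e, hc] at hlt
      exact lt_irrefl _ hlt
    · have e := hmax (C.map S.subtype) (Subgroup.map_subtype_le C) (sq_map C hC.1)
        (by rw [hc, hcm, ← hcA]; exact hC.2 _ hel)
      rw [← e]
      exact (Subgroup.comap_map_eq_self_of_injective S.subtype_injective C).symm
  · rw [hm]
    have e := Subgroup.card_eq_card_quotient_mul_card_subgroup ((QuotientGroup.mk' Q).comp A.subtype).ker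
    rw [Nat.card_congr (QuotientGroup.quotientKerEquivRange _).toEquiv, MonoidHom.range_comp,
      Subgroup.range_subtype, ← MonoidHom.comap_ker, QuotientGroup.ker_mk',
      Subgroup.comap_subtype, hc] at e
    rw [← (show (A ⊓ Q).subgroupOf A = Q.subgroupOf A by rw [inf_comm, Subgroup.inf_subgroupOf_right]),
      Nat.card_congr (Subgroup.subgroupOfEquivOfLe (inf_le_left : A ⊓ Q ≤ A)).toEquiv, hi] at e
    omega

end Cfsg.Agent.Lib.FischerLarge45
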