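import Cfsg.Agent.Lib.FischerLarge45.Lifts
import Cfsg.Agent.Lib.FischerLarge45.Unique
import Cfsg.Agent.Lib.LargeFischer13.Setting

/-!
Large Fischer type: a Sylow 2-subgroup `T0` of `C(z)`, the singular plane `U ≤ Q` and the preimage
`B ≥ Q` of the subgroup of order 16 fixing it, in coordinates.
-/

set_option autoImplicit false
set_option linter.style.haveILetI false
set_option linter.unusedSectionVars false

namespace Cfsg.Agent.Lib.FischerLarge45

open Cfsg.Agent.Lib.LargeFischer13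
open Cfsg.Agent.Lib.FischerLarge45.Model (ap key omega span b0L uSet eI mulT eI_sem mulT_sem mulT_lt)
open Cfsg.Agent.Lib.FischerLarge45.Stabiliser
open Cfsg.Agent.Lib.FischerLarge45.Lifts (T256 B16 InUSet span_facts)
open Cfsg.Agent.Lib.LargeExtraspecial.Basic (ES commute_of_sq)

attribute [local instance] Bridge.acg Bridge.fin Bridge.act

universe u

variable {G : Type u} [Group G] [Finite G] {z : G} {Q : Subgroup (Cz z)} [Q.Normal]

/-- `z` inside its centraliser -/
abbrev zc (z : G) : Cz z := ⟨z, Subgroup.mem_centralizer_singleton_iff.mpr rfl⟩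

theorem zc_comm (c : Cz z) : Commute c (zc z) :=
  Subtype.ext (Subgroup.mem_centralizer_singleton_iff.mp c.2)

/-- the extraspecial data inside the centraliser -/
theorem es_centralizer {g : G} (s : LargeExtra.TwoConjugate.Setting (QG Q) z g) : ES Q (zc z) where
  mem := by
    obtain ⟨q, hq, e⟩ := s.es.mem
    rwa [show zc z = q from Subtype.ext e.symm]
  ne h := s.es.ne (congrArg Subtype.val h)
  sq := Subtype.ext s.es.sq
  comm p _ := zc_comm p
  center q hq hall := by
    rcases s.es.center q ⟨q, hq, rfl⟩ (by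
      rintro _ ⟨p, hp, rfl⟩
      exact congrArg Subtype.val (hall p hp).eq) with h | h
    · exact Or.inl (Subtype.ext h)
    · exact Or.inr (Subtype.ext h)
  conj q hq v hv := by
    rcases s.es.conj q ⟨q, hq, rfl⟩ v ⟨v, hv, rfl⟩ with h | h
    · exact Or.inl (Subtype.ext h)
    · exact Or.inr (Subtype.ext h)

/-- Everything about the local structure at `z`. -/
structure Local (z : G) (Q : Subgroup (Cz z)) [Q.Normal] where
  br : Bridge z Q
  S : Setting br.D
  T : Sylow 2 (Cz z)
  U : Subgroup (Cz z)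
  B : Subgroup (Cz z)
  x : Cz z
  data : Data Q (zc z) U B x
  hBT : B ≤ (T : Subgroup (Cz z))
  small : Small Q (zc z) U B (T : Subgroup (Cz z))
  mem_T : ∀ c : Cz z, c ∈ (T : Subgroup (Cz z)) ↔ QuotientGroup.mk c ∈ T256 S
  mem_B : ∀ c : Cz z, c ∈ B ↔ QuotientGroup.mk c ∈ B16 S
  mem_U : ∀ c : Cz z, c ∈ U ↔ ∃ hc : c ∈ Q, InUSet S (br.π ⟨c, hc⟩)
  mk_x : (QuotientGroup.mk x : (Cz z) ⧸ Q) = br.D.h

variable (br : Bridge z Q) (S : Setting br.D)

theorem π_conj' {c : Cz z} (u : Q) :
    (QuotientGroup.mk c : (Cz z) ⧸ Q) • br.π u =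
      br.π ⟨c * u * c⁻¹, Subgroup.Normal.conj_mem inferInstance _ u.2 c⟩ :=
  br.π_conj c u _ rfl

theorem zc_cases {u v : Q} (h : br.π u = br.π v) : (v : Cz z) = u ∨ (v : Cz z) = u * zc z := by
  rcases br.fibre h with h | h
  · exact Or.inl (congrArg Subtype.val h)
  · exact Or.inr (Subtype.ext h)

open Classical in
/-- the codes of the vectors coming from a subgroup of `Q` -/
noncomputable def codesOf (U : Subgroup (Cz z)) : Finset Nat :=
  (Finset.range 4096).filter fun a => ∃ u : Q, (u : Cz z) ∈ U ∧ br.π u = S.E a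

theorem card_codesOf {U : Subgroup (Cz z)} (hUQ : U ≤ Q) (hz : zc z ∈ U) (hne : zc z ≠ 1) :
    Nat.card U = 2 * (codesOf br S U).card := by
  classical
  let f : ↥U →* Multiplicative br.V := MonoidHom.mk' (fun u => Multiplicative.ofAdd (br.π ⟨u, hUQ u.2⟩))
    (fun a b => by
      rw [← ofAdd_add, ← br.π_mul]
      rfl)
  have hr : Nat.card f.range = (codesOf br S U).card := by
    rw [← Nat.card_eq_finsetCard]
    refine (Nat.card_congr (Equiv.ofBijective (fun a : codesOf br S U => (⟨Multiplicative.ofAdd (S.E a.1), by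
      obtain ⟨-, u, hu, e⟩ := Finset.mem_filter.1 a.2
      exact ⟨⟨u, hu⟩, congrArg Multiplicative.ofAdd e⟩⟩ : f.range)) ⟨?_, ?_⟩)).symm
    · intro a b e
      exact Subtype.ext (S.E_inj (Finset.mem_range.1 (Finset.mem_filter.1 a.2).1)
        (Finset.mem_range.1 (Finset.mem_filter.1 b.2).1)
        (Multiplicative.ofAdd.injective (congrArg Subtype.val e)))
    · rintro ⟨y, u, rfl⟩
      obtain ⟨a, ha, e⟩ := S.E_surj (br.π ⟨u, hUQ u.2⟩)
      exact ⟨⟨a, Finset.mem_filter.2 ⟨Finset.mem_range.2 ha, ⟨u, hUQ u.2⟩, u.2, e.symm⟩⟩,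
        Subtype.ext (congrArg Multiplicative.ofAdd e)⟩
  have hk : Nat.card f.ker = 2 := by
    have hmem : ∀ u : ↥U, u ∈ f.ker ↔ (u.1 = 1 ∨ u.1 = zc z) := by
      intro u
      rw [MonoidHom.mem_ker]
      constructor
      · intro h
        rcases (br.π_zero _).mp (Multiplicative.ofAdd.injective h) with h | h
        · exact Or.inl (congrArg Subtype.val h)
        · exact Or.inr (Subtype.ext h)
      · intro h
        refine congrArg Multiplicative.ofAdd ((br.π_zero _).mpr ?_)
        rcases h with h | h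
        · exact Or.inl (Subtype.ext h)
        · exact Or.inr (congrArg Subtype.val h)
    rw [Nat.card_eq_two_iff]
    refine ⟨⟨1, f.ker.one_mem⟩, ⟨⟨zc z, hz⟩, (hmem _).2 (Or.inr rfl)⟩, fun h => hne ?_, ?_⟩
    · exact (congrArg (fun u : f.ker => (u.1.1 : Cz z)) h).symm
    · refine Set.eq_univ_of_forall fun u => ?_
      rcases (hmem u.1).1 u.2 with h | h
      · exact Or.inl (Subtype.ext (Subtype.ext h))
      · exact Or.inr (Subtype.ext (Subtype.ext h))
  have e := Subgroup.card_eq_card_quotient_mul_card_subgroup f.ker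
  rw [Nat.card_congr (QuotientGroup.quotientKerEquivRange f).toEquiv, hr, hk] at e
  omega

/-- the plane -/
def planeSub : Subgroup (Cz z) where
  carrier := {c | ∃ hc : c ∈ Q, InUSet S (br.π ⟨c, hc⟩)}
  one_mem' := ⟨Q.one_mem, 0, by decide +kernel, by
    show S.E 0 = br.π 1
    rw [br.π_one]
    have := S.E_xor 0 0
    rw [Nat.xor_self] at this
    exact add_eq_left.mp this.symm⟩
  mul_mem' := by
    rintro a b ⟨ha, p, hp, ep⟩ ⟨hb, q, hq, eq⟩
    have hx : ∀ p ∈ uSet, ∀ q ∈ uSet, p ^^^ q ∈ uSet := by decide +kernel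
    refine ⟨Q.mul_mem ha hb, p ^^^ q, hx p hp q hq, ?_⟩
    rw [S.E_xor, ep, eq, ← br.π_mul]
    rfl
  inv_mem' := by
    rintro a ⟨ha, p, hp, ep⟩
    exact ⟨Q.inv_mem ha, p, hp, ep.trans (br.π_inv ⟨a, ha⟩).symm⟩

theorem uSet_facts : ∀ a ∈ uSet, a < 4096 ∧ omega a ∈ uSet ∧ Codes.qn a = false := by decide +kernel

theorem omega_free : ∀ a < 64, ∀ b < 64, omega (64 * a + b) = 64 * a + b → a = 0 ∧ b = 0 := by decide +kernel

include S in
theorem h_fixed {v : br.V} (h : br.D.h • v = v) : v = 0 := by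
  obtain ⟨a, ha, rfl⟩ := S.E_surj v
  rw [S.h_E ha] at h
  have e := S.E_inj (Codes.omega_lt ha) ha h
  have h0 := omega_free (a / 64) (Nat.div_lt_of_lt_mul ha) (a % 64) (Nat.mod_lt _ (by norm_num))
    (by rwa [Nat.div_add_mod])
  have : a = 0 := by omega
  subst this
  have := S.E_xor 0 0
  rw [Nat.xor_self] at this
  exact add_eq_left.mp this.symm

theorem span_omega : (span b0L).all (fun t => (List.range 12).all fun i =>
    ap (key t) (omega (2 ^ i)) == omega (ap (key t) (2 ^ i)) && mulT t t == eI) = true := by decide +kernel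

theorem B16_props {β : (Cz z) ⧸ Q} (hβ : β ∈ B16 S) :
    β * β = 1 ∧ β * br.D.h = br.D.h * β := by
  obtain ⟨a, ha, e⟩ := hβ
  have h := List.all_eq_true.1 span_omega a ha
  simp only [List.all_eq_true, Bool.and_eq_true, beq_iff_eq, List.mem_range] at h
  obtain ⟨h1, -⟩ := span_facts a ha
  have hh : ∀ k < 4096, S.ac br.D.h k = omega k := fun k hk =>
    S.E_inj (S.ac_lt _ _) (Codes.omega_lt hk) (by rw [S.E_ac, S.h_E hk])
  refine ⟨S.eq_of_ac fun k hk => ?_, S.eq_of_ac fun k hk => ?_⟩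
  · rw [S.ac_mul, e k hk, e _ (Model.ap_lt _ _), ← mulT_sem h1 h1 hk, (h 0 (by norm_num)).2, eI_sem hk,
      S.ac_one hk]
  · rw [S.ac_mul, S.ac_mul, hh k hk, e _ (Codes.omega_lt hk), e k hk, hh _ (Model.ap_lt _ _)]
    exact Model.eq_of_basis (fun x => ap (key a) (omega x)) (fun x => omega (ap (key a) x))
      (fun a _ b _ => by simp only [Codes.omega_xor, Model.ap_xor])
      (fun a _ b _ => by simp only [Codes.omega_xor, Model.ap_xor]) (fun i hi => (h i hi).1) hk

theorem card_comap_mk (K : Subgroup ((Cz z) ⧸ Q)) :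
    Nat.card (K.comap (QuotientGroup.mk' Q)) = Nat.card K * Nat.card Q := by
  have h1 := Subgroup.card_eq_card_quotient_mul_card_subgroup Q
  have h2 := (K.comap (QuotientGroup.mk' Q)).card_mul_index
  rw [Subgroup.index_comap_of_surjective K (QuotientGroup.mk'_surjective Q)] at h2
  have h3 := K.card_mul_index
  have hpos : K.index ≠ 0 := Subgroup.index_ne_zero_of_finite
  refine mul_right_cancel₀ hpos ?_
  rw [h2, h1, ← h3]
  ring

/-- The local structure exists. -/
theorem exists_local (hF : Cfsg.IsOfLargeFischerTypeAt z Q) : Nonempty (Local z Q) := by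
  classical
  obtain ⟨br⟩ := exists_bridge z Q hF
  obtain ⟨g, ⟨hq, hgQ'⟩, hne⟩ := hF.1.2.2.2.2
  have hgQ : g * z * g⁻¹ ∈ QG Q := ⟨_, hgQ', rfl⟩
  obtain ⟨st, -⟩ := LargeFischer13.exists_setting hF hgQ hne
  have hQ13 : Nat.card Q = 2 ^ 13 := hF.1.2.2.2.1
  have hes := es_centralizer st
  obtain ⟨F⟩ := br.D.exists_nframe
  have hB := br.big hF (y := ⟨_, hgQ'⟩) rfl hne
  obtain ⟨n, hn, hnA⟩ := F.toFrame.exists_outer
  obtain ⟨π, σ, hm⟩ := F.toFrame.exists_mono_of_norm hnA
  have hinv := F.inverts hB hn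
  obtain ⟨S⟩ := Stabiliser.exists_setting F n hinv (F.semilinear_odd hB hinv hm) hm
  let U := planeSub br S
  let B := (B16 S).comap (QuotientGroup.mk' Q)
  let T₀ := (T256 S).comap (QuotientGroup.mk' Q)
  have hQB : Q ≤ B := fun q hq => by
    show QuotientGroup.mk q ∈ B16 S
    rw [(QuotientGroup.eq_one_iff q).2 hq]; exact one_mem _
  have hBT : B ≤ T₀ := Subgroup.comap_mono (Lifts.B16_le S)
  have hcard : Nat.card (Cz z) = 2 ^ 21 * 76545 := by
    rw [Subgroup.card_eq_card_quotient_mul_card_subgroup Q, br.D.cardW, hQ13]; norm_num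
  have hT : Nat.card T₀ = 2 ^ (Nat.card (Cz z)).factorization 2 := by
    rw [show T₀ = (T256 S).comap (QuotientGroup.mk' Q) from rfl, card_comap_mk, Lifts.card_T256, hQ13, hcard,
      Nat.factorization_mul (by norm_num) (by norm_num), Finsupp.add_apply,
      Nat.Prime.factorization_pow (by norm_num),
      Nat.factorization_eq_zero_of_not_dvd (by norm_num : ¬ (2 ∣ 76545))]
    norm_num
  obtain ⟨c, hc⟩ := QuotientGroup.mk'_surjective Q br.D.h
  let x := c ^ 4
  have hxh : (QuotientGroup.mk x : (Cz z) ⧸ Q) = br.D.h := by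
    show QuotientGroup.mk' Q (c ^ 4) = br.D.h
    rw [map_pow, hc, pow_succ, pow_succ, pow_succ, pow_one, br.D.h_cube, one_mul]
  have hx3 : x ^ 3 = 1 := by
    have hc3 : c ^ 3 ∈ Q := (QuotientGroup.eq_one_iff _).1 (by
      show QuotientGroup.mk' Q (c ^ 3) = 1
      rw [map_pow, hc, pow_succ, pow_succ, pow_one, br.D.h_cube])
    show (c ^ 4) ^ 3 = 1
    rw [← pow_mul, show 4 * 3 = 3 * 4 by norm_num, pow_mul, show 4 = 2 * 2 by norm_num, pow_mul, pow_two,
      pow_two]
    rcases hes.sq_cases hc3 with h | h <;> rw [h]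
    · exact one_mul 1
    · exact hes.sq
  have hzU : zc z ∈ U := ⟨hes.mem, 0, by decide +kernel, by
    rw [(br.π_zero _).2 (Or.inr rfl)]
    have := S.E_xor 0 0
    rw [Nat.xor_self] at this
    exact add_eq_left.mp this.symm⟩
  have hUQ : U ≤ Q := fun _ h => h.1
  have hsqU : ∀ u ∈ U, u * u = 1 := by
    rintro u ⟨hu, a, ha, ea⟩
    have hq0 : br.D.q (br.π ⟨u, hu⟩) = 0 := by
      rw [← ea, S.q_E (uSet_facts a ha).1, ZMod.natCast_eq_zero_iff_even, Nat.even_iff]
      have := (uSet_facts a ha).2.2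
      simpa [Codes.qn] using this
    exact congrArg Subtype.val ((br.π_q _).1 hq0)
  have hcU : Nat.card U = 2 ^ 7 := by
    rw [card_codesOf br S hUQ hzU hes.ne]
    have e : codesOf br S U = uSet.toFinset := by
      ext a
      simp only [codesOf, Finset.mem_filter, Finset.mem_range, List.mem_toFinset]
      constructor
      · rintro ⟨ha, u, ⟨_, b, hb, eb⟩, e⟩
        rwa [S.E_inj ha (uSet_facts b hb).1 (e.symm.trans eb.symm)]
      · intro ha
        obtain ⟨q, hq⟩ := br.π_surj (S.E a)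
        exact ⟨(uSet_facts a ha).1, q, ⟨q.2, a, ha, hq.symm⟩, hq⟩
    rw [e, List.toFinset_card_of_nodup (by decide +kernel)]
    have : uSet.length = 64 := by decide +kernel
    rw [this]; norm_num
  have hact : ∀ (b : Cz z) (u : Q), br.π ⟨b * u * b⁻¹, Subgroup.Normal.conj_mem inferInstance _ u.2 b⟩ =
      (QuotientGroup.mk b : (Cz z) ⧸ Q) • br.π u := fun b u => (π_conj' br u).symm
  have data : Data Q (zc z) U B x :=
    { es := hes
      central := fun c => zc_comm c
      normal := inferInstance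
      cardQ := hQ13
      hUQ := hUQ
      hzU := hzU
      sqU := hsqU
      cardU := hcU
      hQB := hQB
      cardB := by
        rw [show B = (B16 S).comap (QuotientGroup.mk' Q) from rfl, card_comap_mk, Lifts.card_B16, hQ13]
        norm_num
      stab := fun b hb u hu => by
        obtain ⟨huQ, hin⟩ := hu
        have e : br.π ⟨b * u * b⁻¹, _⟩ = br.π ⟨u, huQ⟩ :=
          (hact b ⟨u, huQ⟩).trans (Lifts.uSet_fixed S hb hin)
        exact zc_cases br e.symm
      cube := hx3
      normU := fun u hu => by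
        obtain ⟨huQ, a, ha, ea⟩ := hu
        refine ⟨Subgroup.Normal.conj_mem inferInstance _ huQ x, omega a, (uSet_facts a ha).2.1, ?_⟩
        rw [hact x ⟨u, huQ⟩, hxh, ← ea, S.h_E (uSet_facts a ha).1]
      fpf := fun u hu h1 hz => by
        have huQ := hUQ hu
        have hne0 : br.π ⟨u, huQ⟩ ≠ 0 := fun h => by
          rcases (br.π_zero _).1 h with h | h
          · exact h1 (congrArg Subtype.val h)
          · exact hz (Subtype.ext h)
        have key : ∀ t : Q, (t : Cz z) = x * u * x⁻¹ → br.π t = br.π ⟨u, huQ⟩ → False := fun t ht h => by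
          refine hne0 (h_fixed br S ?_)
          rw [← hxh, ← hact x ⟨u, huQ⟩, ← show t = ⟨x * u * x⁻¹, _⟩ from Subtype.ext ht]
          exact h
        refine ⟨fun h => key ⟨u, huQ⟩ h.symm rfl, fun h => key ⟨u * zc z, Q.mul_mem huQ hes.mem⟩ h.symm ?_⟩
        rw [show (⟨u * zc z, _⟩ : Q) = ⟨u, huQ⟩ * ⟨zc z, hes.mem⟩ from rfl, br.π_mul,
          (br.π_zero ⟨zc z, hes.mem⟩).2 (Or.inr rfl), add_zero]
      trivB := fun b hb => by
        refine (QuotientGroup.eq_one_iff _).1 ?_
        show QuotientGroup.mk' Q (x * b * x⁻¹ * b⁻¹) = 1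
        rw [map_mul, map_mul, map_mul, map_inv, map_inv]
        show QuotientGroup.mk x * _ * (QuotientGroup.mk x)⁻¹ * _ = 1
        rw [hxh, ← (B16_props br S hb).2]
        group
      sqB := fun b hb => (QuotientGroup.eq_one_iff _).1 (B16_props br S hb).1
      trans := fun a ha b hb haQ hbQ => by
        obtain ⟨w, h1, h2, h3⟩ := Lifts.exists_conj S ha hb
          (fun h => haQ ((QuotientGroup.eq_one_iff a).1 h)) (fun h => hbQ ((QuotientGroup.eq_one_iff b).1 h))
        obtain ⟨c, rfl⟩ := QuotientGroup.mk'_surjective Q w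
        refine ⟨c, fun d hd => h2 _ hd, fun u hu => ?_, ?_⟩
        · obtain ⟨huQ, hin⟩ := hu
          exact ⟨Subgroup.Normal.conj_mem inferInstance _ huQ c, by rw [hact c ⟨u, huQ⟩]; exact h3 _ hin⟩
        · refine (QuotientGroup.eq_one_iff _).1 ?_
          show QuotientGroup.mk' Q (c * a * c⁻¹ * b⁻¹) = 1
          rw [map_mul, map_mul, map_mul, map_inv, map_inv]
          exact mul_inv_eq_one.2 h1 }
  have small : Small Q (zc z) U B T₀ := by
    intro B' U' hQB' hB'T hsq hU'Q hzU' hU'2 hst hU'7 hbig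
    let S' : Finset Nat := (Finset.range 256).filter fun a =>
      ∃ b ∈ B', ∀ k < 4096, S.ac (QuotientGroup.mk b) k = ap (key a) k
    have hS'mem : ∀ a ∈ S', a < 256 ∧ ∃ b ∈ B', ∀ k < 4096, S.ac (QuotientGroup.mk b) k = ap (key a) k :=
      fun a ha => ⟨Finset.mem_range.1 (Finset.mem_filter.1 ha).1, (Finset.mem_filter.1 ha).2⟩
    have hsq' : ∀ y ∈ B'.map (QuotientGroup.mk' Q), y * y = 1 := by
      rintro _ ⟨b, hb, rfl⟩
      exact (QuotientGroup.eq_one_iff _).2 (hsq b hb)
    have hel : Model.Elem S' :=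
      { lt := fun a ha => (hS'mem a ha).1
        one := Finset.mem_filter.2 ⟨Finset.mem_range.2 Model.eI_lt, 1, B'.one_mem, fun k hk => by
          rw [QuotientGroup.mk_one, S.ac_one hk, eI_sem hk]⟩
        mul := fun a ha b hb => by
          obtain ⟨ha', p, hp, ep⟩ := hS'mem a ha
          obtain ⟨hb', q, hq, eq⟩ := hS'mem b hb
          exact Finset.mem_filter.2 ⟨Finset.mem_range.2 (mulT_lt ha' b), p * q, B'.mul_mem hp hq, fun k hk => by
            rw [QuotientGroup.mk_mul, S.ac_mul, eq k hk, ep _ (Model.ap_lt _ _), mulT_sem ha' hb' hk]⟩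
        invol := fun a ha k hk => by
          obtain ⟨-, p, hp, ep⟩ := hS'mem a ha
          rw [← ep k hk, ← ep _ (S.ac_lt _ _), ← S.ac_mul, hsq' (QuotientGroup.mk p) ⟨p, hp, rfl⟩, S.ac_one hk]
        comm := fun a ha b hb k hk => by
          obtain ⟨-, p, hp, ep⟩ := hS'mem a ha
          obtain ⟨-, q, hq, eq⟩ := hS'mem b hb
          have hc : (QuotientGroup.mk p : (Cz z) ⧸ Q) * QuotientGroup.mk q =
              QuotientGroup.mk q * QuotientGroup.mk p :=
            (commute_of_sq hsq' ⟨p, hp, rfl⟩ ⟨q, hq, rfl⟩).eq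
          rw [← eq k hk, ← ep _ (S.ac_lt _ _), ← S.ac_mul, hc, S.ac_mul, ep k hk, eq _ (Model.ap_lt _ _)] }
    have hcS : Nat.card (B'.map (QuotientGroup.mk' Q)) = S'.card := by
      have hex : ∀ y : B'.map (QuotientGroup.mk' Q), ∃ a, a ∈ S' ∧ ∀ k < 4096, S.ac y.1 k = ap (key a) k := by
        rintro ⟨_, b, hb, rfl⟩
        obtain ⟨a, ha, e⟩ := hB'T hb
        exact ⟨a, Finset.mem_filter.2 ⟨Finset.mem_range.2 ha, b, hb, e⟩, e⟩
      choose f hf hfe using hex
      rw [← Nat.card_eq_finsetCard]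
      refine Nat.card_congr (Equiv.ofBijective (fun y => (⟨f y, hf y⟩ : S')) ⟨fun y y' e => ?_, ?_⟩)
      · exact Subtype.ext (S.eq_of_ac fun k hk => by rw [hfe y k hk, hfe y' k hk, show f y = f y' from congrArg Subtype.val e])
      · rintro ⟨a, ha⟩
        obtain ⟨ha', b, hb, eb⟩ := hS'mem a ha
        refine ⟨⟨_, b, hb, rfl⟩, Subtype.ext ?_⟩
        exact Model.key_inj (hS'mem _ (hf _)).1 ha' fun k hk => by
          rw [← hfe _ k hk]; exact eb k hk
    have hB'c : Nat.card B' = S'.card * Nat.card Q := by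
      rw [← hcS, ← card_comap_mk, Subgroup.comap_map_eq, QuotientGroup.ker_mk', sup_eq_left.2 hQB']
    let F' := codesOf br S U'
    have hF'c := card_codesOf br S hU'Q hzU' hes.ne
    have hF'lt : ∀ v ∈ F', v < 4096 := fun v hv => Finset.mem_range.1 (Finset.mem_filter.1 hv).1
    have hfix : ∀ a ∈ S', ∀ v ∈ F', ap (key a) v = v := by
      intro a ha v hv
      obtain ⟨-, p, hp, ep⟩ := hS'mem a ha
      obtain ⟨hv4, u, hu, eu⟩ := Finset.mem_filter.1 hv
      rw [← ep v (Finset.mem_range.1 hv4)]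
      refine S.E_inj (S.ac_lt _ _) (Finset.mem_range.1 hv4) ?_
      rw [S.E_ac, ← eu, π_conj' br u]
      rcases hst p hp u hu with h | h
      · exact congrArg br.π (Subtype.ext h)
      · rw [show (⟨p * u * p⁻¹, _⟩ : Q) = u * ⟨zc z, hes.mem⟩ from Subtype.ext h, br.π_mul,
          (br.π_zero ⟨zc z, hes.mem⟩).2 (Or.inr rfl), add_zero]
    obtain ⟨hS, hF⟩ := hel.small F' hF'lt hfix (show (codesOf br S U').card ≤ 64 by norm_num at hU'7; omega) (by
      show 2 ^ 10 ≤ S'.card * (codesOf br S U').card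
      rw [hB'c, hF'c, hQ13] at hbig
      norm_num at hbig ⊢
      nlinarith)
    refine ⟨?_, ?_⟩
    · refine le_antisymm (fun b hb => ?_) (fun b hb => ?_)
      · obtain ⟨a, ha, e⟩ := hB'T hb
        exact ⟨a, List.mem_toFinset.1 (hS ▸ Finset.mem_filter.2 ⟨Finset.mem_range.2 ha, b, hb, e⟩), e⟩
      · obtain ⟨a, ha, e⟩ := hb
        obtain ⟨-, b', hb', e'⟩ := hS'mem a (hS.symm ▸ List.mem_toFinset.2 ha)
        have hmk : (QuotientGroup.mk b : (Cz z) ⧸ Q) = QuotientGroup.mk b' := S.eq_of_ac fun k hk => by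
          rw [e' k hk]; exact e k hk
        have := B'.mul_mem hb' (hQB' (QuotientGroup.eq.1 hmk.symm))
        simpa using this
    · refine Subgroup.eq_of_le_of_card_ge (fun u hu => ?_) ?_
      · obtain ⟨a, ha, ea⟩ := S.E_surj (br.π ⟨u, hU'Q hu⟩)
        exact ⟨hU'Q hu, a, List.mem_toFinset.1 (hF ▸ Finset.mem_filter.2
          ⟨Finset.mem_range.2 ha, ⟨u, hU'Q hu⟩, hu, ea.symm⟩), ea⟩
      · rw [hcU, hF'c, show (codesOf br S U').card = uSet.toFinset.card from congrArg _ hF,
          List.toFinset_card_of_nodup (by decide +kernel)]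
        have : uSet.length = 64 := by decide +kernel
        rw [this]; norm_num
  exact ⟨⟨br, S, Sylow.ofCard T₀ hT, U, B, x, data, hBT, small, fun _ => Iff.rfl, fun _ => Iff.rfl,
    fun _ => Iff.rfl, hxh⟩⟩

end Cfsg.Agent.Lib.FischerLarge45
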