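import Cfsg.Agent.Lib.FischerLarge45.Codes
import Cfsg.Agent.Lib.LargeFischer13.StabU

/-!
`C(z)/Q` on codes: every additive map commuting with `ω` and preserving the form and the orbit of 378
is induced by the index-two subgroup, possibly followed by one transposition of the lines.
-/

set_option autoImplicit false
set_option linter.style.haveILetI false
set_option linter.unusedSectionVars false

namespace Cfsg.Agent.Lib.FischerLarge45.Stabiliser

open Cfsg.Agent.Lib.LargeFischer13
open Cfsg.Agent.Lib.LargeFischer13.Model (Coord Ph wt phase shift move moveC oadd phase_move wt_move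
  move_one wt_shift exists_move_wt)
open Cfsg.Agent.Lib.FischerLarge45.Model (omega eq_of_basis)
open Cfsg.Agent.Lib.FischerLarge45.Codes

/-- an additive map commuting with `ω`, preserving the form and the orbit of 378 -/
structure Aut (f : Nat → Nat) : Prop where
  lt : ∀ k < 4096, f k < 4096
  add : ∀ a < 4096, ∀ b < 4096, f (a ^^^ b) = f a ^^^ f b
  om : ∀ k < 4096, f (omega k) = omega (f k)
  qn : ∀ k < 4096, qn (f k) = qn k
  inU : ∀ k < 4096, inU k = true → inU (f k) = true
  inj : ∀ a < 4096, ∀ b < 4096, f a = f b → a = b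

theorem Aut.comp {f g : Nat → Nat} (hf : Aut f) (hg : Aut g) : Aut (fun k => f (g k)) where
  lt k hk := hf.lt _ (hg.lt k hk)
  add a ha b hb := by show f (g (a ^^^ b)) = _; rw [hg.add a ha b hb, hf.add _ (hg.lt a ha) _ (hg.lt b hb)]
  om k hk := by show f (g (omega k)) = _; rw [hg.om k hk, hf.om _ (hg.lt k hk)]
  qn k hk := by show Codes.qn (f (g k)) = _; rw [hf.qn _ (hg.lt k hk), hg.qn k hk]
  inU k hk h := hf.inU _ (hg.lt k hk) (hg.inU k hk h)
  inj a ha b hb h := hg.inj a ha b hb (hf.inj _ (hg.lt a ha) _ (hg.lt b hb) h)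

/-- the code of a vector of weight one -/
def un (i : Fin 6) (a : ZMod 3) : Nat := enc (Model.unit i (some a))

theorem un_facts : ∀ (i : Fin 6) (a : ZMod 3), un i a < 4096 ∧ omega (un i a) = un i (a + 1) ∧
    (i ≠ 0 → inU (1 ^^^ un i a) = true) := by decide +kernel

theorem un_inj : ∀ (i l : Fin 6) (a b : ZMod 3), un i a = un l b → i = l ∧ a = b := by decide +kernel

theorem un_zero : un 0 0 = 1 := by decide +kernel

theorem basis_un : ∀ j < 12, ∃ (i : Fin 6) (a : ZMod 3), 2 ^ j = un i a := by decide +kernel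

/-- the codes of weight one off the first line -/
def singles : List Nat := (List.range 5).flatMap fun i => [1, 2, 3].map fun d => d <<< (2 * (i + 1))

theorem single_aux : (List.range 4096).all (fun u =>
    !(inU (1 ^^^ u) && inU (1 ^^^ omega u) && inU (1 ^^^ omega (omega u))) || singles.contains u) = true := by
  decide +kernel

theorem singles_un : ∀ u ∈ singles, ∃ (i : Fin 6) (a : ZMod 3), i ≠ 0 ∧ u = un i a := by decide +kernel

theorem mv_un (π : Equiv.Perm (Fin 6)) (σ : Ph) (i : Fin 6) (a : ZMod 3) :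
    mv π σ (un i a) = un (π i) (a + σ i) := by
  rw [mv, un, un, dec_enc]
  congr 1
  funext l
  by_cases hl : l = π i
  · subst hl; simp [move, Model.unit]
  · have : π.symm l ≠ i := fun e => hl (by rw [← e, Equiv.apply_symm_apply])
    simp [move, Model.unit, hl, this]

/-- an automorphism fixing the first basis vector is monomial -/
theorem Aut.mono {f : Nat → Nat} (hf : Aut f) (h1 : f 1 = 1) :
    ∃ (π : Equiv.Perm (Fin 6)) (σ : Ph), π 0 = 0 ∧ σ 0 = 0 ∧ ∑ i, σ i = 0 ∧
      ∀ k < 4096, f k = mv π σ k := by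
  have hstep : ∀ i b, f (un i (b + 1)) = omega (f (un i b)) := fun i b => by
    rw [← (un_facts i b).2.1, hf.om _ (un_facts i b).1]
  have him : ∀ i, ∃ (j : Fin 6) (a : ZMod 3), f (un i 0) = un j a ∧ (i = 0 → j = 0 ∧ a = 0) ∧ (i ≠ 0 → j ≠ 0) := by
    intro i
    by_cases hi : i = 0
    · exact ⟨0, 0, by rw [hi, un_zero, h1], fun _ => ⟨rfl, rfl⟩, fun h => absurd hi h⟩
    have key : ∀ b, Codes.inU (1 ^^^ f (un i b)) = true := fun b => by
      have := hf.inU _ (Nat.xor_lt_two_pow (n := 12) (by norm_num) (un_facts i b).1) ((un_facts i b).2.2 hi)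
      rwa [hf.add 1 (by norm_num) _ (un_facts i b).1, h1] at this
    have hu := List.all_eq_true.1 single_aux (f (un i 0)) (List.mem_range.2 (hf.lt _ (un_facts i 0).1))
    have e2 : omega (f (un i 0)) = f (un i 1) := (hstep i 0).symm
    have e3 : omega (f (un i 1)) = f (un i (1 + 1)) := (hstep i 1).symm
    rw [key 0, e2, key 1, e3, key (1 + 1)] at hu
    obtain ⟨j, a, hj, e⟩ := singles_un _ (List.contains_iff_mem.1 (by simpa using hu))
    exact ⟨j, a, e, fun h => absurd h hi, fun _ => hj⟩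
  choose p σ hp h0 hne using him
  have hgen : ∀ i b, f (un i b) = un (p i) (σ i + b) := by
    intro i b
    have h2 : ∀ c, f (un i c) = un (p i) (σ i + c) → f (un i (c + 1)) = un (p i) (σ i + (c + 1)) :=
      fun c hc => by rw [hstep, hc, (un_facts _ _).2.1, add_assoc]
    have h00 : f (un i 0) = un (p i) (σ i + 0) := by rw [add_zero]; exact hp i
    have hb : ∀ b : ZMod 3, b = 0 ∨ b = 0 + 1 ∨ b = 0 + 1 + 1 := by decide
    rcases hb b with rfl | rfl | rfl
    exacts [h00, h2 _ h00, h2 _ (h2 _ h00)]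
  have hinj : Function.Injective p := by
    intro i l hil
    have e : f (un i (σ l - σ i)) = f (un l 0) := by
      rw [hgen, hgen, hil]; congr 1; ring
    exact (un_inj _ _ _ _ (hf.inj _ (un_facts _ _).1 _ (un_facts _ _).1 e)).1
  let π : Equiv.Perm (Fin 6) := Equiv.ofBijective p (Finite.injective_iff_bijective.1 hinj)
  have hπ : ∀ i, π i = p i := fun i => rfl
  have hall : ∀ k < 4096, f k = mv π σ k := fun k hk =>
    eq_of_basis f (mv π σ) hf.add (fun a _ b _ => mv_xor π σ a b) (fun j hj => by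
      obtain ⟨i, a, e⟩ := basis_un j hj
      rw [e, hgen, mv_un, hπ, add_comm]) hk
  refine ⟨π, σ, (h0 0 rfl).1, (h0 0 rfl).2, ?_, hall⟩
  have hU : Codes.inU 1365 = true := by decide +kernel
  have h6 : wt (dec 1365) = 6 ∧ phase (dec 1365) = 0 := by decide +kernel
  have := hf.inU 1365 (by norm_num) hU
  rw [hall 1365 (by norm_num), mv, inU_iff (enc_lt _), dec_enc, wt_move, h6.1] at this
  rcases this with h | ⟨-, h⟩
  · norm_num at h
  · rwa [phase_move _ _ h6.1, h6.2, zero_add] at h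

/-- perms fixing the first line -/
def perms0 : Finset (Equiv.Perm (Fin 6)) := Finset.univ.filter fun π => π 0 = 0

/-- even perms fixing the first line -/
def even0 : Finset (Equiv.Perm (Fin 6)) := Finset.univ.filter fun π => π 0 = 0 ∧ Equiv.Perm.sign π = 1

/-- phases fixing the first line -/
def phs0 : Finset Ph := Finset.univ.filter fun σ => σ 0 = 0 ∧ ∑ i, σ i = 0

theorem card_perms0 : perms0.card = 120 := by decide +kernel
theorem card_even0 : even0.card = 60 := by decide +kernel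
theorem card_phs0 : phs0.card = 81 := by decide +kernel

/-- the class of the codes of a given weight -/
def cls (n : Nat) : Finset Nat := ((List.range 4096).filter fun k => wtN k == n).toFinset

theorem mem_cls {n k : Nat} : k ∈ cls n ↔ k < 4096 ∧ wtN k = n := by simp [cls]

theorem cls_card : (cls 1).card = 18 ∧ (cls 3).card = 540 ∧ (cls 5).card = 1458 := by
  have h : ((List.range 4096).filter fun k => wtN k == 1).length = 18 ∧
      ((List.range 4096).filter fun k => wtN k == 3).length = 540 ∧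
      ((List.range 4096).filter fun k => wtN k == 5).length = 1458 := by decide +kernel
  have hn : ∀ p : Nat → Bool, ((List.range 4096).filter p).Nodup := fun p => List.nodup_range.filter _
  exact ⟨(List.toFinset_card_of_nodup (hn _)).trans h.1, (List.toFinset_card_of_nodup (hn _)).trans h.2.1,
    (List.toFinset_card_of_nodup (hn _)).trans h.2.2⟩

attribute [irreducible] cls perms0 phs0 even0

theorem odd_classes : (List.range 4096).all (fun k => !qn k || (wtN k == 1 || wtN k == 3 || wtN k == 5))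
    = true := by decide +kernel

theorem only_full : (List.range 19).all (fun a => [0, 540].all fun b => [0, 1458].all fun c =>
    !(1 ≤ a && 9797760 % (a + b + c) == 0 && 1008 ≤ a + b + c) || (a + b + c == 2016)) = true := by
  decide +kernel

/-- the first two lines exchanged -/
def p01 : Nat → Nat := mv (Equiv.swap 0 1) 0

theorem p01_aux : (List.range 4096).all (fun k =>
    decide (p01 (omega k) = omega (p01 k)) && (qn (p01 k) == qn k) && (!inU k || inU (p01 k)) &&
      decide (p01 (p01 k) = k)) = true := by decide +kernel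

theorem p01_facts {k : Nat} (hk : k < 4096) : p01 (omega k) = omega (p01 k) ∧ qn (p01 k) = qn k ∧
    (inU k = true → inU (p01 k) = true) ∧ p01 (p01 k) = k := by
  have := List.all_eq_true.1 p01_aux k (List.mem_range.2 hk)
  simp only [Bool.and_eq_true, beq_iff_eq, decide_eq_true_eq, Bool.or_eq_true, Bool.not_eq_true'] at this
  obtain ⟨⟨⟨h1, h2⟩, h3⟩, h4⟩ := this
  exact ⟨h1, h2, fun h => h3.resolve_left (by simp [h]), h4⟩

theorem aut_p01 : Aut p01 where
  lt k _ := enc_lt _
  add a _ b _ := mv_xor _ _ a b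
  om k hk := (p01_facts hk).1
  qn k hk := (p01_facts hk).2.1
  inU k hk := (p01_facts hk).2.2.1
  inj a ha b hb h := by rw [← (p01_facts ha).2.2.2, h, (p01_facts hb).2.2.2]

/-- the class of 378 in the shifted coordinates -/
def Cl (c : Coord) : Prop := wt c = 2 ∨ (wt c = 6 ∧ phase c = 0)

/-- what is used of the group -/
structure Setting {W : Type*} [Group W] {V : Type*} [AddCommGroup V] [DistribMulAction W V]
    (D : Core W V) where
  F : Frame D
  cl : ∀ (w : W) (c c' : Coord), w • F.vec c = F.vec c' → Cl c → Cl c'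
  outer : W
  outer_h : outer * D.h * outer⁻¹ = D.h⁻¹
  outer_vec : ∀ c, outer • F.vec c = F.vec (moveC (Equiv.swap 0 1) 0 c)

variable {W : Type*} [Group W] [Finite W] {V : Type*} [AddCommGroup V] [Finite V]
  [DistribMulAction W V] {D : Core W V}

/-- from a normalised frame and a semilinear monomial element with odd permutation -/
theorem exists_setting (F : NFrame D) (n : W) (hn : n * D.h * n⁻¹ = D.h⁻¹) {π : Equiv.Perm (Fin 6)}
    {σ : Ph} (hπ : Equiv.Perm.sign π = -1) (hm : F.IsMono n π σ) : Nonempty (Setting D) := by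
  set s : Ph := Pi.single 0 1 with hs
  have hsum : ∑ i, s i = 1 := by rw [hs]; decide
  have hsU : ∀ c, Model.IsU (shift s c) ↔ Cl c := fun c => by
    refine or_congr (by rw [wt_shift]) ⟨fun h => ?_, fun h => ?_⟩
    · rw [wt_shift] at h
      exact ⟨h.1, by rw [← move_one, phase_move _ _ h.1, hsum] at h; exact add_eq_right.mp h.2⟩
    · exact ⟨by rw [wt_shift]; exact h.1, by rw [← move_one, phase_move _ _ h.1, hsum, h.2, zero_add]⟩
  -- adjust the outer element
  obtain ⟨p, hp, hpm⟩ := F.exists_pure (Equiv.swap 0 1 * π⁻¹) (by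
    rw [map_mul, Equiv.Perm.sign_swap (by decide), Equiv.Perm.sign_inv, hπ]; decide)
  have hpc : p * D.h = D.h * p := D.central p (D.P_le hp)
  have hpn : F.IsMono (p * n) (Equiv.swap 0 1) σ := fun i => by
    rw [mul_smul, hm i, D.smul_lineEl_of_comm hpc (hpm (π i))]
    simp [Equiv.Perm.mul_apply]
  have hpnh : (p * n) * D.h * (p * n)⁻¹ = D.h⁻¹ := by
    rw [mul_inv_rev, show p * n * D.h * (n⁻¹ * p⁻¹) = p * (n * D.h * n⁻¹) * p⁻¹ by group, hn,
      mul_inv_eq_iff_eq_mul]
    exact (Commute.inv_right (show Commute p D.h from hpc)).eq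
  have hσ := F.sum_inv hpnh hpn
  let τ : Ph := fun i => s i + s (Equiv.swap 0 1 i)
  have hτ : ∑ i, τ i = 2 := by simp only [τ, hs]; decide
  obtain ⟨a, ha, hka⟩ := F.diag' (fun j => τ ((Equiv.swap 0 1).symm j) - σ ((Equiv.swap 0 1).symm j)) (by
    rw [Finset.sum_sub_distrib, Equiv.sum_comp (Equiv.swap (0 : Fin 6) 1).symm τ,
      Equiv.sum_comp (Equiv.swap (0 : Fin 6) 1).symm σ, hσ, hτ, sub_self])
  have hac : a * D.h = D.h * a := D.central a (D.A_le_Mb ha)
  have hm' : F.IsMono (a * (p * n)) (Equiv.swap 0 1) τ := fun i => by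
    rw [mul_smul, hpn i, D.smul_lineEl_of_comm hac (hka _)]
    simp only [Option.map_some, Equiv.symm_apply_apply]
    rw [add_sub_cancel]
  have hh : (a * (p * n)) * D.h * (a * (p * n))⁻¹ = D.h⁻¹ := by
    rw [mul_inv_rev, show a * (p * n) * D.h * ((p * n)⁻¹ * a⁻¹) = a * (p * n * D.h * (p * n)⁻¹) * a⁻¹ by
      group, hpnh, mul_inv_eq_iff_eq_mul]
    exact (Commute.inv_right (show Commute a D.h from hac)).eq
  refine ⟨⟨F.toFrame.rebase s, fun w c c' h hc => (hsU c').1 ?_, _, hh, fun c => ?_⟩⟩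
  · rw [Frame.rebase_vec, Frame.rebase_vec] at h
    exact F.isU_smul ((hsU c).2 hc) h
  · rw [Frame.rebase_vec, Frame.rebase_vec, F.toFrame.smul_vec_inv hh hm']
    congr 1
    funext j
    simp only [moveC, shift, Option.map_map, τ, Equiv.swap_apply_self, Equiv.symm_swap, Pi.zero_apply]
    congr 1
    funext x
    simp only [Function.comp_apply]
    ring

namespace Setting

variable (S : Setting D)

/-- the vector of a code -/
def E (k : Nat) : V := S.F.vec (dec k)

/-- the coordinates of a vector -/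
noncomputable def crd (x : V) : Coord := Classical.choose (S.F.exists_coord x)

theorem crd_spec (x : V) : S.F.vec (S.crd x) = x := Classical.choose_spec (S.F.exists_coord x)

theorem crd_vec (c : Coord) : S.crd (S.F.vec c) = c := S.F.vec_inj (S.crd_spec _)

/-- the action on codes -/
noncomputable def ac (w : W) (k : Nat) : Nat := enc (S.crd (w • S.E k))

theorem ac_lt (w : W) (k : Nat) : S.ac w k < 4096 := enc_lt _

theorem E_ac (w : W) (k : Nat) : S.E (S.ac w k) = w • S.E k := by rw [E, ac, dec_enc, S.crd_spec]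

theorem E_enc (c : Coord) : S.E (enc c) = S.F.vec c := by rw [E, dec_enc]

theorem E_inj {a b : Nat} (ha : a < 4096) (hb : b < 4096) (h : S.E a = S.E b) : a = b :=
  dec_inj ha hb (S.F.vec_inj h)

theorem E_surj (x : V) : ∃ k < 4096, S.E k = x :=
  ⟨enc (S.crd x), enc_lt _, by rw [E_enc, crd_spec]⟩

theorem E_xor (a b : Nat) : S.E (a ^^^ b) = S.E a + S.E b := by
  rw [E, dec_xor, E, E, S.F.vec_add]

theorem ac_mul (v w : W) (k : Nat) : S.ac (v * w) k = S.ac v (S.ac w k) :=
  S.E_inj (S.ac_lt _ _) (S.ac_lt _ _) (by rw [E_ac, E_ac, E_ac, mul_smul])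

theorem ac_one {k : Nat} (hk : k < 4096) : S.ac 1 k = k :=
  S.E_inj (S.ac_lt _ _) hk (by rw [E_ac, one_smul])

theorem ac_xor (w : W) (a b : Nat) : S.ac w (a ^^^ b) = S.ac w a ^^^ S.ac w b :=
  S.E_inj (S.ac_lt _ _) (Nat.xor_lt_two_pow (n := 12) (S.ac_lt _ _) (S.ac_lt _ _))
    (by rw [E_ac, E_xor, smul_add, E_xor, E_ac, E_ac])

theorem ac_inj (w : W) {a b : Nat} (ha : a < 4096) (hb : b < 4096) (h : S.ac w a = S.ac w b) : a = b := by
  have := congrArg (S.ac w⁻¹) h
  rwa [← ac_mul, ← ac_mul, inv_mul_cancel, ac_one S ha, ac_one S hb] at this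

theorem eq_of_ac {v w : W} (h : ∀ k < 4096, S.ac v k = S.ac w k) : v = w := by
  have e : ∀ x : V, v • x = w • x := fun x => by
    obtain ⟨k, hk, rfl⟩ := S.E_surj x
    rw [← E_ac, ← E_ac, h k hk]
  exact (inv_mul_eq_one.mp (D.faithful (w⁻¹ * v) fun x => by rw [mul_smul, e, inv_smul_smul])).symm

theorem q_E {k : Nat} (hk : k < 4096) : D.q (S.E k) = (wtN k : ZMod 2) := by rw [E, S.F.q_eq, wt_dec hk]

theorem qn_eq {a b : Nat} (ha : a < 4096) (hb : b < 4096) :
    qn a = qn b ↔ D.q (S.E a) = D.q (S.E b) := by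
  rw [q_E S ha, q_E S hb, ZMod.natCast_eq_natCast_iff']
  unfold qn
  rcases Nat.mod_two_eq_zero_or_one (wtN a) with h | h <;>
    rcases Nat.mod_two_eq_zero_or_one (wtN b) with h' | h' <;> simp [h, h']

theorem h_E {k : Nat} (hk : k < 4096) : D.h • S.E k = S.E (omega k) := by
  have := S.F.hpow_vec 1 (dec k)
  rw [show (1 : ZMod 3).val = 1 from rfl, pow_one] at this
  rw [E, this, E, (code_facts k hk).2.2]

theorem ac_inU (w : W) {k : Nat} (hk : k < 4096) (h : inU k = true) : inU (S.ac w k) = true :=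
  (inU_iff (S.ac_lt w k)).2 (S.cl w _ _ (S.E_ac w k).symm ((inU_iff hk).1 h))

theorem aut_ac {m : W} (hm : m ∈ D.Mb) : Aut (S.ac m) where
  lt k _ := S.ac_lt m k
  add a _ b _ := S.ac_xor m a b
  om k hk := S.E_inj (S.ac_lt _ _) (omega_lt (S.ac_lt _ _))
    (by rw [E_ac, ← h_E S hk, ← h_E S (S.ac_lt _ _), E_ac, D.smul_h_comm hm])
  qn k hk := (S.qn_eq (S.ac_lt _ _) hk).2 (by rw [E_ac, D.q_smul])
  inU k hk h := S.ac_inU m hk h
  inj a ha b hb h := S.ac_inj m ha hb h

theorem ac_mono {m : W} (hm : m ∈ D.Mb) {π : Equiv.Perm (Fin 6)} {σ : Ph} (h : S.F.IsMono m π σ)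
    (k : Nat) : S.ac m k = mv π σ k := by
  refine S.E_inj (S.ac_lt _ _) (enc_lt _) ?_
  rw [E_ac, mv, E_enc, E, S.F.smul_vec hm h]

theorem exists_mv (π : Equiv.Perm (Fin 6)) (hπ : Equiv.Perm.sign π = 1) (σ : Ph) (hσ : ∑ i, σ i = 0) :
    ∃ m ∈ D.Mb, ∀ k, S.ac m k = mv π σ k := by
  obtain ⟨p, hp, τ, hτ⟩ := S.F.mono' π hπ
  have hpm := D.P_le hp
  have hsum : ∑ i, τ i = 0 := by
    have h6 : wt (dec 1365) = 6 ∧ phase (dec 1365) = 0 := by decide +kernel
    have h2 := S.cl p _ _ (S.F.smul_vec hpm hτ (dec 1365)) (Or.inr h6)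
    rcases h2 with h | ⟨-, h⟩
    · rw [wt_move, h6.1] at h; norm_num at h
    · rwa [phase_move _ _ h6.1, h6.2, zero_add] at h
  obtain ⟨a, ha, hka⟩ := S.F.diag' (fun j => σ (π.symm j) - τ (π.symm j)) (by
    rw [Finset.sum_sub_distrib, Equiv.sum_comp π.symm σ, Equiv.sum_comp π.symm τ, hσ, hsum, sub_self])
  refine ⟨a * p, D.Mb.mul_mem (D.A_le_Mb ha) hpm, fun k => S.ac_mono (D.Mb.mul_mem (D.A_le_Mb ha) hpm) ?_ k⟩
  have e := S.F.mono_mul (D.central a (D.A_le_Mb ha)) (π := 1) hka hτ
  simpa using e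

/-- the stabiliser of the first basis vector: exactly the even monomial maps; the orbit: all 2016 -/
theorem stab_orbit : (∀ k < 4096, qn k = true → ∃ m ∈ D.Mb, S.ac m 1 = k) ∧
    ∀ m ∈ D.Mb, S.ac m 1 = 1 → ∀ (π : Equiv.Perm (Fin 6)) (σ : Ph), π 0 = 0 → σ 0 = 0 →
      (∀ k < 4096, S.ac m k = mv π σ k) → Equiv.Perm.sign π = 1 := by
  classical
  have hmv1 : ∀ π σ, π (0 : Fin 6) = 0 → σ (0 : Fin 6) = 0 → mv π σ 1 = 1 := fun π σ h0 h1 => by
    rw [← un_zero, mv_un, h0, h1, add_zero]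
  let x0 : V := S.E 1
  have hst : ∀ m : D.Mb, m ∈ MulAction.stabilizer D.Mb x0 ↔ S.ac m 1 = 1 := fun m => by
    rw [MulAction.mem_stabilizer_iff]
    show (m : W) • S.E 1 = S.E 1 ↔ _
    rw [← E_ac]
    exact ⟨fun h => S.E_inj (S.ac_lt _ _) (by norm_num) h, fun h => by rw [h]⟩
  have hch : ∀ m : MulAction.stabilizer D.Mb x0, ∃ p : Equiv.Perm (Fin 6) × Ph,
      p ∈ perms0 ×ˢ phs0 ∧ ∀ k < 4096, S.ac m.1.1 k = mv p.1 p.2 k := fun m => by
    obtain ⟨π, σ, h0, h1, h2, h3⟩ := (S.aut_ac m.1.2).mono ((hst m.1).1 m.2)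
    exact ⟨(π, σ), by simp [perms0, phs0, h0, h1, h2], h3⟩
  choose φ hφmem hφ using hch
  have hφinj : Function.Injective φ := fun a b e => by
    refine Subtype.ext (Subtype.ext (S.eq_of_ac fun k hk => ?_))
    rw [hφ a k hk, hφ b k hk, e]
  haveI := Fintype.ofFinite (MulAction.stabilizer D.Mb x0)
  let Im : Finset (Equiv.Perm (Fin 6) × Ph) := Finset.univ.image φ
  have hcardIm : Im.card = Nat.card (MulAction.stabilizer D.Mb x0) := by
    rw [Finset.card_image_of_injective _ hφinj, Finset.card_univ, Nat.card_eq_fintype_card]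
  have hle : Nat.card (MulAction.stabilizer D.Mb x0) ≤ 9720 := by
    rw [← hcardIm]
    refine (Finset.card_le_card (t := perms0 ×ˢ phs0) fun p hp => ?_).trans (by
      rw [Finset.card_product, card_perms0, card_phs0])
    obtain ⟨m, -, rfl⟩ := Finset.mem_image.1 hp
    exact hφmem m
  -- the orbit
  let O : Finset Nat := (Finset.range 4096).filter fun k => S.E k ∈ MulAction.orbit D.Mb x0
  have hOmem : ∀ k, k ∈ O ↔ k < 4096 ∧ ∃ m ∈ D.Mb, S.ac m 1 = k := fun k => by
    simp only [O, Finset.mem_filter, Finset.mem_range]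
    refine and_congr_right fun hk => ⟨?_, ?_⟩
    · rintro ⟨m, hm⟩
      exact ⟨m, m.2, S.E_inj (S.ac_lt _ _) hk (by rw [E_ac]; exact hm)⟩
    · rintro ⟨m, hm, e⟩
      exact ⟨⟨m, hm⟩, by rw [← e]; exact (S.E_ac m 1).symm⟩
  have hOcard : O.card = Nat.card (MulAction.orbit D.Mb x0) := by
    rw [← Nat.card_eq_finsetCard]
    refine Nat.card_congr (Equiv.ofBijective (fun k => ⟨S.E k.1, (Finset.mem_filter.1 k.2).2⟩) ⟨?_, ?_⟩)
    · intro a b e
      exact Subtype.ext (S.E_inj ((hOmem _).1 a.2).1 ((hOmem _).1 b.2).1 (congrArg Subtype.val e))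
    · rintro ⟨x, hx⟩
      obtain ⟨k, hk, rfl⟩ := S.E_surj x
      exact ⟨⟨k, Finset.mem_filter.2 ⟨Finset.mem_range.2 hk, hx⟩⟩, rfl⟩
  have hmul : O.card * Nat.card (MulAction.stabilizer D.Mb x0) = 9797760 := by
    rw [hOcard, ← D.card_Mb, Nat.card_congr (MulAction.orbitEquivQuotientStabilizer D.Mb x0),
      ← Subgroup.card_eq_card_quotient_mul_card_subgroup]
  have hodd : ∀ k ∈ O, k ∈ cls 1 ∨ k ∈ cls 3 ∨ k ∈ cls 5 := by
    intro k hk
    obtain ⟨hk4, m, hm, e⟩ := (hOmem k).1 hk
    have hq : qn k = true := by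
      rw [← e, (S.aut_ac hm).qn 1 (by norm_num)]
      decide +kernel
    have := List.all_eq_true.1 odd_classes k (List.mem_range.2 hk4)
    simp [hq] at this
    simpa [mem_cls, hk4, or_assoc] using this
  have hclass : ∀ n, n = 3 ∨ n = 5 → ∀ k ∈ O, k ∈ cls n → cls n ⊆ O := by
    intro n hn k hk hkn l hl
    obtain ⟨hk4, m, hm, e⟩ := (hOmem k).1 hk
    rw [mem_cls] at hkn hl
    obtain ⟨π, hπ, hall⟩ := exists_move_wt (c := dec k) (c' := dec l)
      (by rw [wt_dec hk4, wt_dec hl.1, hkn.2, hl.2]) (by rw [wt_dec hk4, hkn.2]; omega)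
      (by rw [wt_dec hk4, hkn.2]; omega)
    obtain ⟨r, hr, hrc⟩ := hall 0
    obtain ⟨m1, hm1, e1⟩ := S.exists_mv π hπ 0 (by simp)
    obtain ⟨m2, hm2, e2⟩ := S.exists_mv 1 (map_one _) r hr
    refine (hOmem l).2 ⟨hl.1, m2 * (m1 * m), D.Mb.mul_mem hm2 (D.Mb.mul_mem hm1 hm), ?_⟩
    rw [ac_mul, ac_mul, e, e1, e2, mv, mv, dec_enc, move_one, hrc, enc_dec hl.1]
  obtain ⟨c1, c3, c5⟩ := cls_card
  have hpart : O.card = (O ∩ cls 1).card + (O ∩ cls 3).card + (O ∩ cls 5).card := by
    have hd : ∀ i j, i ≠ j → Disjoint (O ∩ cls i) (O ∩ cls j) := fun i j hij => by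
      rw [Finset.disjoint_left]
      intro k h1 h2
      simp only [Finset.mem_inter, mem_cls] at h1 h2
      omega
    rw [← Finset.card_union_of_disjoint (hd 1 3 (by norm_num)), ← Finset.card_union_of_disjoint
      (by rw [Finset.disjoint_union_left]; exact ⟨hd 1 5 (by norm_num), hd 3 5 (by norm_num)⟩)]
    apply congrArg Finset.card
    ext k
    simp only [Finset.mem_union, Finset.mem_inter]
    exact ⟨fun h => by rcases hodd k h with h' | h' | h' <;> simp [h, h'], fun h => by rcases h with (h | h) | h <;> exact h.1⟩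
  have hsize : ∀ n, n = 3 ∨ n = 5 → (O ∩ cls n).card = 0 ∨ (O ∩ cls n).card = (cls n).card := fun n hn => by
    rcases (O ∩ cls n).eq_empty_or_nonempty with h | ⟨k, hk⟩
    · exact Or.inl (by rw [h, Finset.card_empty])
    · rw [Finset.mem_inter] at hk
      exact Or.inr (by rw [Finset.inter_eq_right.2 (hclass n hn k hk.1 hk.2)])
  have h1O : 1 ∈ O ∩ cls 1 := Finset.mem_inter.2
    ⟨(hOmem 1).2 ⟨by norm_num, 1, D.Mb.one_mem, S.ac_one (by norm_num)⟩,
      mem_cls.2 ⟨by norm_num, by decide +kernel⟩⟩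
  have ha1 : 1 ≤ (O ∩ cls 1).card := Finset.card_pos.2 ⟨1, h1O⟩
  have ha18 : (O ∩ cls 1).card ≤ 18 := c1 ▸ Finset.card_le_card Finset.inter_subset_right
  have hn1008 : 1008 ≤ O.card := by
    by_contra hh
    have := Nat.mul_le_mul (Nat.le_of_lt_succ (by omega : O.card < 1007 + 1)) hle
    omega
  have hfull : O.card = 2016 := by
    have := List.all_eq_true.1 (List.all_eq_true.1 (List.all_eq_true.1 only_full _
      (List.mem_range.2 (by omega : (O ∩ cls 1).card < 19))) (O ∩ cls 3).card (by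
        rcases hsize 3 (Or.inl rfl) with h | h <;> simp [h, c3])) (O ∩ cls 5).card (by
        rcases hsize 5 (Or.inr rfl) with h | h <;> simp [h, c5])
    rw [← hpart] at this
    simpa [ha1, hn1008, Nat.mod_eq_zero_of_dvd (Dvd.intro _ hmul)] using this
  have hst4860 : Nat.card (MulAction.stabilizer D.Mb x0) = 4860 := by rw [hfull] at hmul; omega
  refine ⟨fun k hk hq => ?_, fun m hm h1 π σ hp0 hs0 hall => ?_⟩
  · have hOeq : O = cls 1 ∪ cls 3 ∪ cls 5 := by
      refine Finset.eq_of_subset_of_card_le (fun k hk => ?_) ?_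
      · rcases hodd k hk with h | h | h <;> simp [h]
      · refine (Finset.card_union_le _ _).trans ((Nat.add_le_add_right (Finset.card_union_le _ _) _).trans ?_)
        rw [c1, c3, c5, hfull]
    have hmem : k ∈ O := by
      have := List.all_eq_true.1 odd_classes k (List.mem_range.2 hk)
      simp [hq] at this
      rw [hOeq]
      simpa [mem_cls, hk, or_assoc] using this
    exact ((hOmem k).1 hmem).2
  · have hsub : even0 ×ˢ phs0 ⊆ Im := by
      rintro ⟨π', σ'⟩ hp
      simp only [Finset.mem_product, even0, phs0, Finset.mem_filter, Finset.mem_univ, true_and] at hp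
      obtain ⟨⟨hp0', hs'⟩, hs0', hsum'⟩ := hp
      obtain ⟨m', hm', e'⟩ := S.exists_mv π' hs' σ' hsum'
      let mm : MulAction.stabilizer D.Mb x0 :=
        ⟨⟨m', hm'⟩, (hst _).2 ((e' 1).trans (hmv1 π' σ' hp0' hs0'))⟩
      refine Finset.mem_image.2 ⟨mm, Finset.mem_univ _, ?_⟩
      have hk : ∀ k < 4096, mv (φ mm).1 (φ mm).2 k = mv π' σ' k := fun k hk => (hφ mm k hk).symm.trans (e' k)
      exact mv_ext hk
    have heq : even0 ×ˢ phs0 = Im := Finset.eq_of_subset_of_card_le hsub (by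
      rw [hcardIm, hst4860, Finset.card_product, card_even0, card_phs0])
    let mm : MulAction.stabilizer D.Mb x0 := ⟨⟨m, hm⟩, (hst _).2 h1⟩
    have hmm : φ mm = (π, σ) := mv_ext fun k hk => (hφ mm k hk).symm.trans (hall k hk)
    have : φ mm ∈ even0 ×ˢ phs0 := heq ▸ Finset.mem_image_of_mem _ (Finset.mem_univ _)
    rw [hmm] at this
    simp only [Finset.mem_product, even0, Finset.mem_filter] at this
    exact this.1.2.2
where
  mv_ext {p q : Equiv.Perm (Fin 6) × Ph} (h : ∀ k < 4096, mv p.1 p.2 k = mv q.1 q.2 k) : p = q := by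
    have key : ∀ i, p.1 i = q.1 i ∧ p.2 i = q.2 i := fun i => by
      have := h _ (un_facts i 0).1
      rw [mv_un, mv_un, zero_add, zero_add] at this
      exact un_inj _ _ _ _ this
    exact Prod.ext (Equiv.ext fun i => (key i).1) (funext fun i => (key i).2)

/-- `p01` is not induced by the index-two subgroup -/
theorem p01_not {m : W} (hm : m ∈ D.Mb) : ¬ ∀ k < 4096, S.ac m k = p01 k := by
  intro h
  obtain ⟨p, hp, hp'⟩ := S.exists_mv (Equiv.swap 0 1 * Equiv.swap 4 5) (by decide) 0 (by simp)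
  have hcomp : ∀ k < 4096, S.ac (p * m) k = mv (Equiv.swap 4 5) 0 k := fun k hk => by
    rw [ac_mul, h k hk, hp', p01, mv, mv, mv, dec_enc]
    congr 1
    funext j
    have e : ∀ j : Fin 6, (Equiv.swap (0 : Fin 6) 1).symm
        ((Equiv.swap (0 : Fin 6) 1 * Equiv.swap 4 5).symm j) = (Equiv.swap (4 : Fin 6) 5).symm j := by decide
    simp only [move, e, Option.map_map, Pi.zero_apply]
    congr 1
    funext x
    simp
  have h1 : S.ac (p * m) 1 = 1 := by rw [hcomp 1 (by norm_num)]; decide +kernel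
  have := S.stab_orbit.2 _ (D.Mb.mul_mem hp hm) h1 (Equiv.swap 4 5) 0 (by decide) rfl hcomp
  exact absurd this (by decide)

/-- every automorphism of the configuration comes from `Mb`, possibly times `p01` -/
theorem cases {f : Nat → Nat} (hf : Aut f) : ∃ m ∈ D.Mb,
    (∀ k < 4096, f k = S.ac m k) ∨ (∀ k < 4096, f k = S.ac m (p01 k)) := by
  obtain ⟨htr, hsign⟩ := S.stab_orbit
  obtain ⟨m, hm, hm1⟩ := htr (f 1) (hf.lt 1 (by norm_num)) (by rw [hf.qn 1 (by norm_num)]; decide +kernel)
  have hg := (S.aut_ac (D.Mb.inv_mem hm)).comp hf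
  have hg1 : S.ac m⁻¹ (f 1) = 1 := by rw [← hm1, ← ac_mul, inv_mul_cancel, ac_one S (by norm_num)]
  obtain ⟨π, σ, hp0, hs0, hsum, hall⟩ := hg.mono hg1
  have hf' : ∀ k < 4096, f k = S.ac m (mv π σ k) := fun k hk => by
    rw [← hall k hk, ← ac_mul, mul_inv_cancel, ac_one S (hf.lt k hk)]
  rcases Int.units_eq_one_or (Equiv.Perm.sign π) with h | h
  · obtain ⟨p, hp, hp'⟩ := S.exists_mv π h σ hsum
    exact ⟨m * p, D.Mb.mul_mem hm hp, Or.inl fun k hk => by rw [hf' k hk, ac_mul, hp']⟩
  · obtain ⟨p, hp, hp'⟩ := S.exists_mv (π * Equiv.swap 0 1) (by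
      rw [map_mul, h, Equiv.Perm.sign_swap (by decide)]; decide) (fun i => σ (Equiv.swap 0 1 i))
      (by rw [Equiv.sum_comp (Equiv.swap (0 : Fin 6) 1) σ, hsum])
    refine ⟨m * p, D.Mb.mul_mem hm hp, Or.inr fun k hk => ?_⟩
    rw [hf' k hk, ac_mul, hp', p01, mv, mv, mv, dec_enc]
    congr 2
    funext j
    simp only [move, Option.map_map, Equiv.Perm.mul_def, Equiv.symm_trans_apply, Equiv.symm_swap,
      Equiv.swap_apply_self, Pi.zero_apply]
    congr 1
    funext x
    simp

end Setting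

end Cfsg.Agent.Lib.FischerLarge45.Stabiliser
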